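import Mathlib.GroupTheory.PGroup
import Mathlib.GroupTheory.Solvable
import Mathlib.GroupTheory.Abelianization.Defs
import Mathlib.Algebra.Group.Action.Basic
import Mathlib.Algebra.BigOperators.Group.Finset.Basic
import Mathlib.Algebra.BigOperators.GroupWithZero.Action
import Mathlib.GroupTheory.GroupAction.Quotient

/-!
Automorphisms of finite abelian groups of exponent two: fixed subgroups, centralisers of elements
with a cyclic vector, semiregular pairs.
-/

set_option autoImplicit false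
set_option linter.unusedSectionVars false
set_option linter.style.haveILetI false

universe u

namespace CfsgLib.OutSylowC

open Subgroup

variable {V : Type u} [CommGroup V]

/-- Common fixed points of a set of automorphisms. -/
def fixOf (s : Set (MulAut V)) : Subgroup V where
  carrier := {v | ∀ g ∈ s, g v = v}
  one_mem' := fun g _ => map_one g
  mul_mem' := fun {a b} ha hb g hg => by rw [map_mul, ha g hg, hb g hg]
  inv_mem' := fun {a} ha g hg => by rw [map_inv, ha g hg]

/-- Fixed points of one automorphism. -/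
def fix1 (g : MulAut V) : Subgroup V := fixOf {g}

theorem mem_fixOf {s : Set (MulAut V)} {v : V} : v ∈ fixOf s ↔ ∀ g ∈ s, g v = v := Iff.rfl

theorem mem_fix1 {g : MulAut V} {v : V} : v ∈ fix1 g ↔ g v = v :=
  ⟨fun h => h g rfl, fun h a ha => by rw [Set.mem_singleton_iff.1 ha]; exact h⟩

theorem fix1_ne_top {g : MulAut V} (hg : g ≠ 1) : fix1 g ≠ ⊤ := fun h =>
  hg (MulEquiv.ext fun v => mem_fix1.1 (h ▸ mem_top v))

theorem pow_mem_fix {g : MulAut V} {v : V} (h : g v = v) : ∀ n : ℕ, (g ^ n) v = v := by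
  intro n
  induction n with
  | zero => rfl
  | succ n ih => rw [pow_succ, MulAut.mul_apply, h, ih]

theorem fixOf_zpowers (g : MulAut V) [Finite (MulAut V)] :
    fixOf (zpowers g : Set (MulAut V)) = fix1 g := by
  ext v
  refine ⟨fun h => mem_fix1.2 (h g (mem_zpowers g)), fun h a ha => ?_⟩
  obtain ⟨n, rfl⟩ := (isOfFinOrder_of_finite g).mem_powers_iff_mem_zpowers.2 ha
  exact pow_mem_fix (mem_fix1.1 h) n

/-- An automorphism commuting with every element of `s` preserves `fixOf s`. -/
theorem map_mem_fixOf {s : Set (MulAut V)} {g : MulAut V} (hg : ∀ a ∈ s, Commute a g) {v : V}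
    (hv : v ∈ fixOf s) : g v ∈ fixOf s := fun a ha => by
  rw [← MulAut.mul_apply, (hg a ha).eq, MulAut.mul_apply, hv a ha]

instance instFiniteMulAut [Finite V] : Finite (MulAut V) :=
  Finite.of_injective (fun f : MulAut V => (f : V → V)) DFunLike.coe_injective

/-- The action of a subgroup of automorphisms on an invariant subgroup. -/
def subAction (P : Subgroup (MulAut V)) (U : Subgroup V) (hU : ∀ p ∈ P, ∀ x ∈ U, p x ∈ U) :
    MulAction P U where
  smul p x := ⟨(p : MulAut V) x, hU p p.2 x x.2⟩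
  one_smul _ := Subtype.ext rfl
  mul_smul _ _ _ := Subtype.ext rfl

theorem card_modEq_fix [Finite V] {r : ℕ} [Fact r.Prime] {P : Subgroup (MulAut V)}
    (hP : IsPGroup r P) (U : Subgroup V) (hU : ∀ p ∈ P, ∀ x ∈ U, p x ∈ U) :
    Nat.card U ≡ Nat.card (U ⊓ fixOf (P : Set (MulAut V)) : Subgroup V) [MOD r] := by
  letI := subAction P U hU
  have h := hP.card_modEq_card_fixedPoints U
  have e : Nat.card (MulAction.fixedPoints P U) =
      Nat.card (U ⊓ fixOf (P : Set (MulAut V)) : Subgroup V) := by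
    refine Nat.card_congr
      { toFun := fun x => ⟨x.1.1, x.1.2, fun p hp => congrArg Subtype.val (x.2 ⟨p, hp⟩)⟩
        invFun := fun x => ⟨⟨x.1, x.2.1⟩, fun p => Subtype.ext (x.2.2 p p.2)⟩
        left_inv := fun x => rfl
        right_inv := fun x => rfl }
  rwa [e] at h

/-- A group acting without fixed points on an invariant subgroup: its order divides `|U| - 1`. -/
theorem card_dvd_of_semiregular [Finite V] {P : Subgroup (MulAut V)} (U : Subgroup V)
    (hU : ∀ p ∈ P, ∀ x ∈ U, p x ∈ U) (hfree : ∀ p ∈ P, p ≠ 1 → ∀ x ∈ U, p x = x → x = 1) :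
    Nat.card P ∣ Nat.card U - 1 := by
  classical
  letI : MulAction P {x : U // x ≠ 1} :=
    { smul := fun p x => ⟨⟨(p : MulAut V) x.1.1, hU p p.2 x.1.1 x.1.2⟩, fun h => x.2 (Subtype.ext
        ((p : MulAut V).injective ((congrArg Subtype.val h).trans (map_one (p : MulAut V)).symm)))⟩
      one_smul := fun _ => Subtype.ext (Subtype.ext rfl)
      mul_smul := fun _ _ _ => Subtype.ext (Subtype.ext rfl) }
  have hst : ∀ x : {x : U // x ≠ 1}, MulAction.stabilizer P x = ⊥ := by
    intro x
    refine (eq_bot_iff_forall _).2 fun p hp => ?_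
    by_contra hp1
    refine x.2 (Subtype.ext ?_)
    exact hfree p p.2 (fun h => hp1 (Subtype.ext h)) x.1.1 x.1.2
      (congrArg (fun y : {x : U // x ≠ 1} => (y.1 : V)) (MulAction.mem_stabilizer_iff.1 hp))
  have h := Nat.card_congr (MulAction.selfEquivOrbitsQuotientProd hst)
  rw [Nat.card_prod] at h
  have hc : Nat.card {x : U // x ≠ 1} = Nat.card U - 1 := by
    have := Fintype.ofFinite U
    rw [Nat.card_eq_fintype_card, Fintype.card_subtype_compl, Fintype.card_subtype_eq,
      Nat.card_eq_fintype_card]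
  exact hc ▸ ⟨_, h.trans (mul_comm _ _)⟩

/-- The subgroup generated by an orbit. -/
def orbSpan (z : MulAut V) (u : V) : Subgroup V := closure (Set.range fun i : ℕ => (z ^ i) u)

theorem self_mem_orbSpan (z : MulAut V) (u : V) : u ∈ orbSpan z u :=
  subset_closure ⟨0, rfl⟩

theorem map_mem_orbSpan (z : MulAut V) (u : V) {x : V} (hx : x ∈ orbSpan z u) :
    z x ∈ orbSpan z u := by
  induction hx using closure_induction with
  | mem y hy =>
    obtain ⟨i, rfl⟩ := hy
    exact subset_closure ⟨i + 1, by simp [pow_succ']⟩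
  | one => rw [map_one]; exact one_mem _
  | mul a b _ _ ha hb => rw [map_mul]; exact mul_mem ha hb
  | inv a _ ha => rw [map_inv]; exact inv_mem ha

theorem orbSpan_le (z : MulAut V) {u : V} {U : Subgroup V} (hu : u ∈ U) (hU : ∀ x ∈ U, z x ∈ U) :
    orbSpan z u ≤ U := by
  refine (closure_le _).2 ?_
  rintro _ ⟨i, rfl⟩
  show (z ^ i) u ∈ U
  induction i with
  | zero => exact hu
  | succ n ih => rw [pow_succ', MulAut.mul_apply]; exact hU _ ih

/-- With a cyclic vector the centraliser is commutative. -/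
theorem comm_of_orbSpan {z : MulAut V} {u : V} (hu : orbSpan z u = ⊤) {a b : MulAut V}
    (ha : Commute a z) (hb : Commute b z) : Commute a b := by
  have key : ∀ y : V, ∃ e : V →* V, e u = y ∧
      ∀ c : MulAut V, Commute c z → ∀ x, e (c x) = c (e x) := by
    intro y
    have hy : y ∈ orbSpan z u := hu ▸ mem_top y
    induction hy using closure_induction with
    | mem w hw =>
      obtain ⟨i, rfl⟩ := hw
      exact ⟨(z ^ i).toMonoidHom, rfl, fun c hc x => (DFunLike.congr_fun ((hc.pow_right i).eq) x).symm⟩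
    | one => exact ⟨1, rfl, fun c _ x => (map_one c).symm⟩
    | mul w w' _ _ hw hw' =>
      obtain ⟨e, he, hec⟩ := hw
      obtain ⟨e', he', hec'⟩ := hw'
      refine ⟨e * e', by simp [he, he'], fun c hc x => ?_⟩
      simp [hec c hc, hec' c hc]
    | inv w _ hw =>
      obtain ⟨e, he, hec⟩ := hw
      refine ⟨e⁻¹, by simp [he], fun c hc x => ?_⟩
      simp [hec c hc]
  obtain ⟨e, he, hec⟩ := key (a u)
  have hae : ∀ x, a x = e x := by
    intro x
    have hx : x ∈ orbSpan z u := hu ▸ mem_top x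
    induction hx using closure_induction with
    | mem w hw =>
      obtain ⟨i, rfl⟩ := hw
      show a ((z ^ i) u) = e ((z ^ i) u)
      rw [hec (z ^ i) ((Commute.refl z).pow_left i), he, ← MulAut.mul_apply, (ha.pow_right i).eq,
        MulAut.mul_apply]
    | one => simp
    | mul w w' _ _ hw hw' => simp [hw, hw']
    | inv w _ hw => simp [hw]
  exact MulEquiv.ext fun x => by
    rw [MulAut.mul_apply, MulAut.mul_apply, hae, hae, hec b hb]

/-- The norm of `g` over `r` steps. -/
def norm (g : MulAut V) (r : ℕ) (v : V) : V := ∏ i ∈ Finset.range r, (g ^ i) v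

theorem map_norm {g : MulAut V} {r : ℕ} (hg : g ^ r = 1) (v : V) : g (norm g r v) = norm g r v := by
  rw [norm, map_prod]
  have h1 := Finset.prod_range_succ' (fun i => (g ^ i) v) r
  have h2 := Finset.prod_range_succ (fun i => (g ^ i) v) r
  rw [h2, hg, pow_zero, MulAut.one_apply] at h1
  calc ∏ i ∈ Finset.range r, g ((g ^ i) v) = ∏ i ∈ Finset.range r, (g ^ (i + 1)) v :=
        Finset.prod_congr rfl fun i _ => by rw [pow_succ', MulAut.mul_apply]
    _ = _ := mul_right_cancel h1.symm

theorem norm_eq_one {g : MulAut V} {r : ℕ} (hg : g ^ r = 1) (hfix : fix1 g = ⊥) (v : V) :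
    norm g r v = 1 :=
  mem_bot.1 (hfix ▸ mem_fix1.2 (map_norm hg v))

theorem sq_pow_odd (h2 : ∀ v : V, v * v = 1) {r : ℕ} (hr : Odd r) (v : V) : v ^ r = v := by
  obtain ⟨k, rfl⟩ := hr
  rw [pow_succ, pow_mul, pow_two, h2, one_pow, one_mul]

/-- Two commuting elements of order `r` do not generate a semiregular group of order `r ^ 2`. -/
theorem exists_fix_ne_bot (h2 : ∀ v : V, v * v = 1) [Nontrivial V] {r : ℕ} [hr : Fact r.Prime]
    (hodd : Odd r) {z h : MulAut V} (hzh : Commute h z) (hz : z ^ r = 1) (hh : h ^ r = 1)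
    (hzf : fix1 z = ⊥) : ∃ i : ℕ, fix1 (h * z ^ i) ≠ ⊥ := by
  by_contra hcon
  push Not at hcon
  obtain ⟨v, hv⟩ := exists_ne (1 : V)
  apply hv
  have hg : ∀ i, (h * z ^ i) ^ r = 1 := fun i => by
    rw [(hzh.pow_right i).mul_pow, hh, one_mul, ← pow_mul, mul_comm, pow_mul, hz, one_pow]
  have h1 : ∏ i ∈ Finset.range r, norm (h * z ^ i) r v = 1 :=
    Finset.prod_eq_one fun i _ => norm_eq_one (hg i) (hcon i) v
  simp only [norm] at h1
  rw [Finset.prod_comm, Finset.prod_eq_single 0] at h1
  · simpa [sq_pow_odd h2 hodd] using h1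
  · intro j hj hj0
    have hlt : j < r := Finset.mem_range.1 hj
    have hjz : fix1 (z ^ j) = ⊥ := by
      refine le_bot_iff.1 (le_trans ?_ hzf.le)
      intro x hx
      obtain ⟨m, hm⟩ : ∃ m : ℕ, (j * m) % r = 1 := by
        have hco : Nat.Coprime j r :=
          (hr.out.coprime_iff_not_dvd.2 (Nat.not_dvd_of_pos_of_lt (Nat.pos_of_ne_zero hj0) hlt)).symm
        obtain ⟨m, -, hm⟩ := Nat.exists_mul_mod_eq_one_of_coprime hco hr.out.one_lt
        exact ⟨m, hm⟩
      have h3 := pow_mem_fix (mem_fix1.1 hx) m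
      rw [← pow_mul, ← Nat.mod_add_div (j * m) r, hm, pow_add, pow_mul, hz, one_pow, mul_one, pow_one] at h3
      exact mem_fix1.2 h3
    have e : ∀ i, ((h * z ^ i) ^ j) v = ((z ^ j) ^ i) ((h ^ j) v) := fun i => by
      rw [(hzh.pow_right i).mul_pow, ((hzh.pow_right i).pow_pow j j).eq, MulAut.mul_apply,
        ← pow_mul, ← pow_mul, mul_comm i j]
    rw [Finset.prod_congr rfl fun i _ => e i]
    exact norm_eq_one (by rw [← pow_mul, mul_comm, pow_mul, hz, one_pow]) hjz _
  · intro h0
    exact absurd (Finset.mem_range.2 hr.out.pos) h0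

/-- A group whose element `z` has abelian centraliser: the normaliser of `⟨z⟩` is soluble. -/
theorem isSolvable_of_normalizes_zpowers {G : Type*} [Group G] (z : G) (N : Subgroup G)
    (hN : ∀ x ∈ N, x * z * x⁻¹ ∈ zpowers z)
    (hC : ∀ a ∈ N, ∀ b ∈ N, Commute a z → Commute b z → Commute a b) : Group.IsSolvable N := by
  let C : Subgroup N := (centralizer ({z} : Set G)).subgroupOf N
  haveI : Group.IsSolvable C := Group.isSolvable_of_comm fun a b => by
    refine Subtype.ext (Subtype.ext ?_)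
    exact (hC _ a.1.2 _ b.1.2 (mem_centralizer_singleton_iff.1 a.2)
      (mem_centralizer_singleton_iff.1 b.2)).eq
  refine Group.isSolvable_of_ker_le_range C.subtype (Abelianization.of (G := N)) ?_
  rw [Subgroup.range_subtype, Abelianization.ker_of, commutator_def]
  refine commutator_le.2 fun x _ y _ => ?_
  refine mem_centralizer_singleton_iff.2 ?_
  obtain ⟨i, hi⟩ := mem_zpowers_iff.1 (hN (x : G)⁻¹ (inv_mem x.2))
  obtain ⟨j, hj⟩ := mem_zpowers_iff.1 (hN (y : G)⁻¹ (inv_mem y.2))
  rw [inv_inv] at hi hj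
  have hx : ∀ k : ℤ, (x : G)⁻¹ * z ^ k * (x : G) = z ^ (i * k) := fun k => by
    have := conj_zpow (i := k) (a := (x : G)⁻¹) (b := z)
    rw [inv_inv] at this
    rw [← this, ← hi, ← zpow_mul]
  have hy : ∀ k : ℤ, (y : G)⁻¹ * z ^ k * (y : G) = z ^ (j * k) := fun k => by
    have := conj_zpow (i := k) (a := (y : G)⁻¹) (b := z)
    rw [inv_inv] at this
    rw [← this, ← hj, ← zpow_mul]
  have h1 : (x : G)⁻¹ * ((y : G)⁻¹ * z * y) * x = (y : G)⁻¹ * ((x : G)⁻¹ * z * x) * y := by
    rw [← hi, ← hj, hx, hy, mul_comm]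
  rw [commutatorElement_def]
  show (x : G) * y * (x : G)⁻¹ * (y : G)⁻¹ * z = z * ((x : G) * y * (x : G)⁻¹ * (y : G)⁻¹)
  calc (x : G) * y * (x : G)⁻¹ * (y : G)⁻¹ * z
      = x * y * ((x : G)⁻¹ * ((y : G)⁻¹ * z * y) * x) * ((x : G)⁻¹ * (y : G)⁻¹) := by group
    _ = x * y * ((y : G)⁻¹ * ((x : G)⁻¹ * z * x) * y) * ((x : G)⁻¹ * (y : G)⁻¹) := by rw [h1]
    _ = _ := by group

end CfsgLib.OutSylowC
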