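import Cfsg.Agent.OutSylowC.Quad
import Cfsg.Agent.Kinf.Critical
import Cfsg.Agent.Kinf.TechExercises
import Cfsg.Prelude.Def_Transfer

/-!
A two-group with all involutions central: automorphisms trivial on the involutions, normalising a
group of automorphisms transitive on the involutions, form a soluble group.
-/

set_option autoImplicit false
set_option linter.unusedSectionVars false
set_option linter.style.haveILetI false

universe u

namespace CfsgLib.OutSylowC

open Subgroup
open scoped commutatorElement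

/-- Solubility of an image from two maps. -/
theorem isSolvable_range_of_two {Y A B : Type*} [Group Y] [Group A] [Group B] (a : Y →* A) (b : Y →* B)
    (hb : Group.IsSolvable b.range) (ha : Group.IsSolvable (b.ker.map a)) : Group.IsSolvable a.range := by
  haveI := hb
  haveI := ha
  let N := (b.ker.map a).subgroupOf a.range
  haveI hN : N.Normal := ⟨fun n hn g => by
    obtain ⟨k, hk, e⟩ := mem_subgroupOf.1 hn
    obtain ⟨y, hy⟩ := g.2
    refine mem_subgroupOf.2 ⟨y * k * y⁻¹, b.normal_ker.conj_mem k hk y, ?_⟩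
    rw [map_mul, map_mul, map_inv, e, hy]
    rfl⟩
  haveI : Group.IsSolvable N := Group.isSolvable_of_isSolvable_injective
    (f := ((a.range.subtype.comp N.subtype)).codRestrict (b.ker.map a) fun x => x.2)
    (fun x y e => Subtype.ext (Subtype.ext (congrArg Subtype.val e :)))
  let h : Y →* a.range ⧸ N := (QuotientGroup.mk' N).comp a.rangeRestrict
  have hker : b.ker ≤ h.ker := fun k hk =>
    (QuotientGroup.eq_one_iff _).2 (mem_subgroupOf.2 ⟨k, hk, rfl⟩)
  have hsur : Function.Surjective h :=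
    (QuotientGroup.mk'_surjective N).comp a.rangeRestrict_surjective
  haveI : Group.IsSolvable (Y ⧸ b.ker) :=
    Group.isSolvable_of_surjective (f := (QuotientGroup.quotientKerEquivRange b).symm.toMonoidHom)
      (QuotientGroup.quotientKerEquivRange b).symm.surjective
  haveI : Group.IsSolvable (a.range ⧸ N) :=
    Group.isSolvable_of_surjective (f := QuotientGroup.lift b.ker h hker)
      (fun z => by obtain ⟨y, rfl⟩ := hsur z; exact ⟨(y : Y ⧸ b.ker), rfl⟩)
  exact Group.isSolvable_of_ker_le_range N.subtype (QuotientGroup.mk' N)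
    (by rw [QuotientGroup.ker_mk', Subgroup.range_subtype])

/-- Restriction of automorphisms to a characteristic subgroup. -/
def charRestr {P : Type*} [Group P] (K : Subgroup P) (hK : ∀ φ : MulAut P, ∀ x ∈ K, φ x ∈ K) :
    MulAut P →* MulAut K where
  toFun φ :=
    { toFun := fun x => ⟨φ x, hK φ x x.2⟩
      invFun := fun x => ⟨φ⁻¹ x, hK φ⁻¹ x x.2⟩
      left_inv := fun x => Subtype.ext (MulAut.inv_apply_self P _ _)
      right_inv := fun x => Subtype.ext (MulAut.apply_inv_self P _ _)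
      map_mul' := fun x y => Subtype.ext (map_mul φ _ _) }
  map_one' := MulEquiv.ext fun _ => rfl
  map_mul' _ _ := MulEquiv.ext fun _ => rfl

/-- The subgroup of central elements squaring to one. -/
def omegaC (P : Type u) [Group P] : Subgroup P where
  carrier := {x | x ∈ center P ∧ x * x = 1}
  one_mem' := ⟨one_mem _, one_mul 1⟩
  mul_mem' := fun {a b} ha hb => ⟨mul_mem ha.1 hb.1, by
    calc a * b * (a * b) = a * (b * a) * b := by group
      _ = a * (a * b) * b := by rw [mem_center_iff.1 ha.1 b]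
      _ = (a * a) * (b * b) := by group
      _ = 1 := by rw [ha.2, hb.2, one_mul]⟩
  inv_mem' := fun {a} ha => ⟨inv_mem ha.1, by rw [← mul_inv_rev, ha.2, inv_one]⟩

theorem omegaC_char {P : Type u} [Group P] (φ : MulAut P) (x : P) (hx : x ∈ omegaC P) :
    φ x ∈ omegaC P := by
  refine ⟨mem_center_iff.2 fun g => ?_, by rw [← map_mul, hx.2, map_one]⟩
  obtain ⟨g', rfl⟩ := φ.surjective g
  rw [← map_mul, ← map_mul, mem_center_iff.1 hx.1 g']

/-- Elements whose squares and commutators lie in the subgroup `omegaC`. -/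
def quadSub (P : Type u) [Group P] : Subgroup P where
  carrier := {w | w * w ∈ omegaC P ∧ ∀ g : P, ⁅w, g⁆ ∈ omegaC P}
  one_mem' := ⟨by rw [one_mul]; exact one_mem _, fun g => by rw [commutatorElement_one_left]; exact one_mem _⟩
  mul_mem' := fun {a b} ha hb => by
    refine ⟨?_, fun g => ?_⟩
    · rw [show a * b * (a * b) = (a * a) * (a⁻¹ * ⁅b, a⁆ * a) * (b * b) by
        simp only [commutatorElement_def]; group]
      refine mul_mem (mul_mem ha.1 ?_) hb.1
      rw [mul_assoc, ← mem_center_iff.1 (hb.2 a).1 a, inv_mul_cancel_left]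
      exact hb.2 a
    · rw [show ⁅a * b, g⁆ = a * ⁅b, g⁆ * a⁻¹ * ⁅a, g⁆ by simp only [commutatorElement_def]; group,
        mem_center_iff.1 (hb.2 g).1 a, mul_inv_cancel_right]
      exact mul_mem (hb.2 g) (ha.2 g)
  inv_mem' := fun {a} ha => by
    refine ⟨by rw [← mul_inv_rev]; exact inv_mem ha.1, fun g => ?_⟩
    rw [show ⁅a⁻¹, g⁆ = a⁻¹ * ⁅a, g⁆⁻¹ * a by simp only [commutatorElement_def]; group, mul_assoc,
      ← mem_center_iff.1 (inv_mem (ha.2 g)).1 a, inv_mul_cancel_left]
    exact inv_mem (ha.2 g)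

theorem quadSub_char {P : Type u} [Group P] (φ : MulAut P) (x : P) (hx : x ∈ quadSub P) :
    φ x ∈ quadSub P := by
  refine ⟨by rw [← map_mul]; exact omegaC_char φ _ hx.1, fun g => ?_⟩
  obtain ⟨g', rfl⟩ := φ.surjective g
  rw [← map_commutatorElement]
  exact omegaC_char φ _ (hx.2 g')

variable {P : Type u} [Group P] [Finite P]

/-- Automorphisms trivial on the quadratic subgroup form a two-group. -/
theorem pow_two_pow_eq_one (hP : IsPGroup 2 P) (hinv : ∀ x : P, x * x = 1 → x ∈ center P)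
    (φ : MulAut P) (hφ : ∀ x ∈ quadSub P, φ x = x) : ∃ k : ℕ, φ ^ 2 ^ k = 1 := by
  haveI : Fact (Nat.Prime 2) := ⟨Nat.prime_two⟩
  obtain ⟨H, hHc, hHp, hHcomm, hHcent⟩ := CfsgLib.Kinf.exists_critical hP
  haveI := hHc
  have hcomm : ∀ a ∈ H, ∀ g : P, ⁅a, g⁆ ∈ H ⊓ centralizer (H : Set P) := fun a ha g =>
    hHcomm (commutator_mem_commutator ha (mem_top g))
  -- commutators of the critical subgroup square to one
  have hc2 : ∀ a ∈ H, ∀ b ∈ H, ⁅a, b⁆ * ⁅a, b⁆ = 1 := by
    intro a ha b hb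
    have hsq : Commute (a * a) b := (mem_centralizer_iff.1 (by rw [← pow_two]; exact hHp a ha) b hb).symm
    have h1 : ⁅a * a, b⁆ = 1 := commutatorElement_eq_one_iff_mul_comm.2 hsq.eq
    rw [show ⁅a * a, b⁆ = a * ⁅a, b⁆ * a⁻¹ * ⁅a, b⁆ by simp only [commutatorElement_def]; group,
      mem_centralizer_iff.1 (hcomm a ha b).2 a ha, mul_inv_cancel_right] at h1
    exact h1
  have hsub : ∀ w ∈ H, w ^ 4 = 1 → w ∈ quadSub P := by
    intro w hw h4
    have hsq : w * w * (w * w) = 1 := by
      rw [← h4]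
      simp only [pow_succ, pow_zero, one_mul, mul_assoc]
    refine ⟨⟨hinv _ hsq, hsq⟩, fun g => ?_⟩
    have h2 : ⁅w, g⁆ * ⁅w, g⁆ = 1 := by
      have h1 : ⁅w * w, g⁆ = 1 :=
        commutatorElement_eq_one_iff_mul_comm.2 (mem_center_iff.1 (hinv _ hsq) g).symm
      rw [show ⁅w * w, g⁆ = w * ⁅w, g⁆ * w⁻¹ * ⁅w, g⁆ by simp only [commutatorElement_def]; group,
        mem_centralizer_iff.1 (hcomm w hw g).2 w hw, mul_inv_cancel_right] at h1
      exact h1
    exact ⟨hinv _ h2, h2⟩
  have hcen : commutator H ≤ center H := by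
    rw [_root_.commutator_def]
    refine commutator_le.2 fun a _ b _ => mem_center_iff.2 fun g => Subtype.ext ?_
    exact mem_centralizer_iff.1 (hcomm a a.2 b).2 g g.2
  have hel : Cfsg.IsElementaryAbelian 2 (commutator H) := by
    refine ⟨⟨⟨fun x y => Subtype.ext (mem_center_iff.1 (hcen y.2) x.1)⟩⟩, ?_⟩
    intro x hx
    rw [_root_.commutator_def, Subgroup.commutator_def] at hx
    induction hx using closure_induction with
    | mem y hy =>
      obtain ⟨a, -, b, -, rfl⟩ := hy
      refine Subtype.ext ?_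
      rw [pow_two]
      exact hc2 a a.2 b b.2
    | one => exact one_pow 2
    | mul a b ha hb ha2 hb2 =>
      have ha' : a ∈ commutator H := by rw [_root_.commutator_def, Subgroup.commutator_def]; exact ha
      rw [(show Commute a b from (mem_center_iff.1 (hcen ha') b).symm).mul_pow, ha2, hb2, one_mul]
    | inv a _ ha2 => rw [inv_pow, ha2, inv_one]
  have hHchar : ∀ ψ : MulAut P, ∀ x ∈ H, ψ x ∈ H := fun ψ x hx =>
    characteristic_iff_le_comap.1 hHc ψ hx
  obtain ⟨-, h4⟩ := CfsgLib.Kinf.omega_two (X := H) (hP.to_subgroup H) hel hcen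
  obtain ⟨k, hk⟩ := h4 (charRestr H hHchar φ) fun g hg => Subtype.ext
    (hφ g (hsub g g.2 (by rw [← SubmonoidClass.coe_pow, hg]; rfl)))
  obtain ⟨e, m, hm, hord⟩ := Nat.exists_eq_pow_mul_and_not_dvd (orderOf_pos φ).ne' 2 (by norm_num)
  refine ⟨k + e, ?_⟩
  have hfix : ∀ x ∈ H, (φ ^ 2 ^ (k + e)) x = x := by
    intro x hx
    have h1 : (charRestr H hHchar φ) ^ 2 ^ (k + e) = 1 := by rw [pow_add, pow_mul, hk, one_pow]
    rw [← map_pow] at h1
    exact congrArg Subtype.val (DFunLike.congr_fun h1 (⟨x, hx⟩ : H))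
  let ψ : MulAut (⊤ : Subgroup P) := charRestr ⊤ (fun _ _ _ => mem_top _) (φ ^ 2 ^ (k + e))
  have hψm : ψ ^ m = 1 := by
    rw [← map_pow, ← pow_mul]
    have : orderOf φ ∣ 2 ^ (k + e) * m := by
      rw [hord]; exact Nat.mul_dvd_mul_right (pow_dvd_pow 2 (by omega)) m
    rw [orderOf_dvd_iff_pow_eq_one.1 this, map_one]
  have hψ1 : ψ = 1 := CfsgLib.Kinf.aut_eq_one_of_critical (p := 2) (hP.to_subgroup ⊤) (le_top (a := H))
    (by rw [commutator_comm]; exact hHcomm)
    (by rw [top_inf_eq, inf_eq_right.2 hHcent]) ψ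
    ((Nat.prime_two.coprime_iff_not_dvd.2 fun h2 => hm (h2.trans (orderOf_dvd_of_pow_eq_one hψm))).symm)
    fun a ha => Subtype.ext (hfix a ha)
  exact MulEquiv.ext fun x => congrArg Subtype.val (DFunLike.congr_fun hψ1 (⟨x, mem_top x⟩ : (⊤ : Subgroup P)))

/-- The main theorem on a two-group with central involutions. -/
theorem isSolvable_of_trivial_on_omega (hFT : CfsgLib.FTRows.OddSolvable.{u}) (hP : IsPGroup 2 P)
    (hinv : ∀ x : P, x * x = 1 → x ∈ center P) (Γ A : Subgroup (MulAut P))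
    (hΓ : ∀ φ ∈ Γ, ∀ x ∈ omegaC P, φ x = x) (hΓA : ∀ φ ∈ Γ, ∀ a ∈ A, φ * a * φ⁻¹ ∈ A)
    (htr : ∀ v ∈ omegaC P, ∀ w ∈ omegaC P, v ≠ 1 → w ≠ 1 → ∃ a ∈ A, a v = w)
    (hodd : ∀ (V : Type u) [Group V] (f : MulAut P →* MulAut V),
      (∀ s : P, f (MulAut.conj s) = 1) →
      Odd (Nat.card ((A ⊓ (charRestr (omegaC P) omegaC_char).ker).map f))) :
    Group.IsSolvable Γ := by
  classical
  haveI : Fact (Nat.Prime 2) := ⟨Nat.prime_two⟩
  set E := quadSub P
  set Om := omegaC P
  let OE := Om.subgroupOf E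
  haveI : OE.Normal := ⟨fun n hn g => mem_subgroupOf.2 (by
    have h : (n : P) ∈ Om := mem_subgroupOf.1 hn
    show (g : P) * n * (g : P)⁻¹ ∈ Om
    rw [mem_center_iff.1 h.1 g, mul_inv_cancel_right]
    exact h)⟩
  haveI : Finite (MulAut P) := Finite.of_injective (fun f : MulAut P => (f : P → P)) DFunLike.coe_injective
  have hcongr : ∀ φ : MulAut P, OE.map (charRestr E quadSub_char φ : E →* E) = OE := by
    intro φ
    refine eq_of_le_of_card_ge (map_le_iff_le_comap.2 fun x hx => ?_)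
      (Subgroup.card_map_of_injective (charRestr E quadSub_char φ).injective).ge
    exact mem_comap.2 (mem_subgroupOf.2 (omegaC_char φ _ (mem_subgroupOf.1 hx)))
  let V := E ⧸ OE
  have hVsq : ∀ v : V, v * v = 1 := by
    intro v
    obtain ⟨w, rfl⟩ := QuotientGroup.mk'_surjective OE v
    rw [← map_mul]
    exact (QuotientGroup.eq_one_iff _).2 (mem_subgroupOf.2 w.2.1)
  letI : CommGroup V :=
    { (inferInstance : Group V) with
      mul_comm := fun a b => by
        obtain ⟨x, rfl⟩ := QuotientGroup.mk'_surjective OE a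
        obtain ⟨y, rfl⟩ := QuotientGroup.mk'_surjective OE b
        rw [← commutatorElement_eq_one_iff_mul_comm, ← map_commutatorElement]
        exact (QuotientGroup.eq_one_iff _).2 (mem_subgroupOf.2 (x.2.2 y)) }
  let actV : MulAut P →* MulAut V := MonoidHom.mk'
    (fun φ => QuotientGroup.congr OE OE (charRestr E quadSub_char φ) (hcongr φ))
    fun φ ψ => MulEquiv.ext fun x => by
      obtain ⟨y, rfl⟩ := QuotientGroup.mk'_surjective OE x
      rfl
  have hactV : ∀ (φ : MulAut P) (y : E),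
      actV φ (QuotientGroup.mk' OE y) = QuotientGroup.mk' OE (charRestr E quadSub_char φ y) := fun _ _ => rfl
  let resE := charRestr E quadSub_char
  -- the image on `V`
  have hL : Group.IsSolvable (Γ.map actV) := by
    by_cases hEO : ∀ w : E, (w : P) ∈ Om
    · haveI : Subsingleton V := ⟨fun a b => by
        obtain ⟨x, rfl⟩ := QuotientGroup.mk'_surjective OE a
        obtain ⟨y, rfl⟩ := QuotientGroup.mk'_surjective OE b
        rw [show QuotientGroup.mk' OE x = 1 from (QuotientGroup.eq_one_iff x).2 (mem_subgroupOf.2 (hEO x))]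
        exact ((QuotientGroup.eq_one_iff y).2 (mem_subgroupOf.2 (hEO y))).symm⟩
      exact Group.isSolvable_of_comm fun a b => Subtype.ext (MulEquiv.ext fun x => Subsingleton.elim _ _)
    push Not at hEO
    obtain ⟨w0, hw0⟩ := hEO
    letI : CommGroup Om :=
      { (inferInstance : Group Om) with mul_comm := fun a b => Subtype.ext (mem_center_iff.1 b.2.1 a) }
    have hsqwell : ∀ x y : E, (x : E ⧸ OE) = y → (x : P) * x = y * y := by
      intro x y h
      obtain ⟨o, ho, rfl⟩ : ∃ o ∈ OE, y = x * o :=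
        ⟨x⁻¹ * y, QuotientGroup.eq.1 h, (mul_inv_cancel_left x y).symm⟩
      have ho' : (o : P) ∈ Om := mem_subgroupOf.1 ho
      show (x : P) * x = (x : P) * o * ((x : P) * o)
      rw [← mul_assoc, mul_assoc (x : P) (o : P) (x : P), ← mem_center_iff.1 ho'.1 (x : P), ← mul_assoc,
        mul_assoc _ (o : P) (o : P), ho'.2, mul_one]
    let q : V → Om := fun v => Quotient.liftOn' v (fun x : E => (⟨(x : P) * x, x.2.1⟩ : Om))
      fun x y h => Subtype.ext (hsqwell x y (Quotient.sound' h))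
    have hq : ∀ x : E, q (QuotientGroup.mk' OE x) = ⟨(x : P) * x, x.2.1⟩ := fun x => rfl
    have hbil : ∀ a b g : E, ⁅(a : P) * b, (g : P)⁆ = ⁅(a : P), (g : P)⁆ * ⁅(b : P), (g : P)⁆ := by
      intro a b g
      rw [show ⁅(a : P) * b, (g : P)⁆ = (a : P) * ⁅(b : P), (g : P)⁆ * (a : P)⁻¹ * ⁅(a : P), (g : P)⁆ by
        simp only [commutatorElement_def]; group,
        mem_center_iff.1 (b.2.2 g).1 a, mul_inv_cancel_right, ← mem_center_iff.1 (b.2.2 g).1 _]
    let B : V → V → Om := fun v w => q (v * w) * (q v * q w)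
    have hB : ∀ x y : E, B (QuotientGroup.mk' OE x) (QuotientGroup.mk' OE y) = ⟨⁅(y : P), (x : P)⁆, y.2.2 x⟩ := by
      intro x y
      show q (QuotientGroup.mk' OE x * QuotientGroup.mk' OE y) * _ = _
      rw [← map_mul, hq, hq, hq]
      refine Subtype.ext ?_
      show (x : P) * y * ((x : P) * y) * ((x : P) * x * ((y : P) * y)) = ⁅(y : P), (x : P)⁆
      have hxy : (x : P) * y * ((x : P) * y) = ⁅(y : P), (x : P)⁆ * ((x : P) * x * ((y : P) * y)) := by
        calc (x : P) * y * ((x : P) * y) = (x : P) * ⁅(y : P), (x : P)⁆ * ((x : P) * ((y : P) * y)) := by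
              simp only [commutatorElement_def]; group
          _ = ⁅(y : P), (x : P)⁆ * x * ((x : P) * ((y : P) * y)) := by rw [mem_center_iff.1 (y.2.2 x).1 x]
          _ = _ := by group
      rw [hxy, mul_assoc, (mul_mem x.2.1 y.2.1 : (x : P) * x * ((y : P) * y) ∈ Om).2, mul_one]
    have hqf : ∀ (φ : MulAut P) v, q (actV φ v) = charRestr Om omegaC_char φ (q v) := by
      intro φ v
      obtain ⟨y, rfl⟩ := QuotientGroup.mk'_surjective OE v
      rw [hactV, hq, hq]
      exact Subtype.ext (map_mul φ _ _).symm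
    have hsurj : ∀ w : Om, ∃ v, q v = w := by
      intro w
      by_cases hw : w = 1
      · exact ⟨QuotientGroup.mk' OE 1, by rw [hq, hw]; exact Subtype.ext (one_mul 1)⟩
      have h0 : (w0 : P) * w0 ≠ 1 := fun h => hw0 ⟨hinv _ h, h⟩
      obtain ⟨a, ha, e⟩ := htr _ w0.2.1 _ w.2 h0 (fun h => hw (Subtype.ext h))
      exact ⟨actV a (QuotientGroup.mk' OE w0), by rw [hqf, hq]; exact Subtype.ext e⟩
    have hform : IsQuadForm q B :=
      { exp := hVsq
        expW := fun w => Subtype.ext w.2.2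
        map_mul := fun a b => by
          have hW : ∀ w : Om, w * w = 1 := fun w => Subtype.ext w.2.2
          show q (a * b) = q a * q b * (q (a * b) * (q a * q b))
          rw [mul_comm (q (a * b)), ← mul_assoc, hW, one_mul]
        bil_left := fun a b c => by
          obtain ⟨x, rfl⟩ := QuotientGroup.mk'_surjective OE a
          obtain ⟨y, rfl⟩ := QuotientGroup.mk'_surjective OE b
          obtain ⟨z, rfl⟩ := QuotientGroup.mk'_surjective OE c
          rw [← map_mul, hB, hB, hB]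
          refine Subtype.ext ?_
          show ⁅(z : P), (x : P) * y⁆ = ⁅(z : P), (x : P)⁆ * ⁅(z : P), (y : P)⁆
          rw [show ⁅(z : P), (x : P) * y⁆ = ⁅(z : P), (x : P)⁆ * ((x : P) * ⁅(z : P), (y : P)⁆ * (x : P)⁻¹) by
            simp only [commutatorElement_def]; group, mem_center_iff.1 (z.2.2 y).1 x, mul_inv_cancel_right]
        bil_right := fun a b c => by
          obtain ⟨x, rfl⟩ := QuotientGroup.mk'_surjective OE a
          obtain ⟨y, rfl⟩ := QuotientGroup.mk'_surjective OE b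
          obtain ⟨z, rfl⟩ := QuotientGroup.mk'_surjective OE c
          rw [← map_mul, hB, hB, hB]
          exact Subtype.ext (hbil y z x)
        aniso := fun v h => by
          obtain ⟨x, rfl⟩ := QuotientGroup.mk'_surjective OE v
          rw [hq] at h
          exact (QuotientGroup.eq_one_iff x).2
            (mem_subgroupOf.2 ⟨hinv _ (congrArg Subtype.val h), congrArg Subtype.val h⟩)
        surj := hsurj }
    refine isSolvable_isometries hform hFT (Γ.map actV) (A.map actV) ?_ ?_ ?_ ?_ ?_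
    · rintro _ ⟨φ, hφ, rfl⟩ v
      rw [hqf]
      exact Subtype.ext (hΓ φ hφ _ (q v).2)
    · rintro _ ⟨φ, hφ, rfl⟩ _ ⟨a, ha, rfl⟩
      exact ⟨φ * a * φ⁻¹, hΓA φ hφ a ha, by rw [map_mul, map_mul, map_inv]⟩
    · rintro _ ⟨a, ha, rfl⟩ v v' h
      rw [hqf, hqf, h]
    · intro v w hv hw
      have hv' : (q v : P) ≠ 1 := fun h => hv (hform.aniso v (Subtype.ext h))
      have hw' : (q w : P) ≠ 1 := fun h => hw (hform.aniso w (Subtype.ext h))
      obtain ⟨a, ha, e⟩ := htr _ (q v).2 _ (q w).2 hv' hw'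
      exact ⟨actV a, ⟨a, ha, rfl⟩, by rw [hqf]; exact Subtype.ext e⟩
    · have hO : A.map actV ⊓ isometries q = (A ⊓ (charRestr Om omegaC_char).ker).map actV := by
        ext g
        constructor
        · rintro ⟨⟨a, ha, rfl⟩, hiso⟩
          refine ⟨a, ⟨ha, MonoidHom.mem_ker.2 (MulEquiv.ext fun w => ?_)⟩, rfl⟩
          obtain ⟨v, rfl⟩ := hsurj w
          rw [← hqf, hiso v]
          rfl
        · rintro ⟨a, ⟨ha, hk⟩, rfl⟩
          refine ⟨⟨a, ha, rfl⟩, fun v => ?_⟩
          rw [hqf, MonoidHom.mem_ker.1 hk]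
          rfl
      rw [hO]
      refine hodd V actV fun s => MulEquiv.ext fun v => ?_
      obtain ⟨y, rfl⟩ := QuotientGroup.mk'_surjective OE v
      rw [hactV, MulAut.one_apply]
      refine QuotientGroup.eq.2 (mem_subgroupOf.2 ?_)
      show (s * (y : P) * s⁻¹)⁻¹ * (y : P) ∈ Om
      have h := inv_mem ((inv_mem y.2 : (y : P)⁻¹ ∈ quadSub P).2 s)
      have e : (s * (y : P) * s⁻¹)⁻¹ * (y : P) = (⁅(y : P)⁻¹, s⁆)⁻¹ := by
        simp only [commutatorElement_def]; group
      rw [e]
      exact h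
  -- up to `P`
  have hE : Group.IsSolvable (Γ.map resE) := by
    have := isSolvable_range_of_two (resE.comp Γ.subtype) (actV.comp Γ.subtype)
      (by rw [MonoidHom.range_comp, Subgroup.range_subtype]; exact hL) ?_
    · rwa [MonoidHom.range_comp, Subgroup.range_subtype] at this
    -- stabilising the series below `E`
    refine Group.isSolvable_of_comm fun a b => Subtype.ext ?_
    obtain ⟨⟨φ, hφ⟩, hφk, ea⟩ := a.2
    obtain ⟨⟨ψ, hψ⟩, hψk, eb⟩ := b.2
    rw [Subgroup.coe_mul, Subgroup.coe_mul, ← ea, ← eb]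
    refine MulEquiv.ext fun y => Subtype.ext ?_
    show φ (ψ (y : P)) = ψ (φ (y : P))
    have hmove : ∀ χ : MulAut P, actV χ = 1 → ((y : P)⁻¹ * χ (y : P)) ∈ Om := fun χ hχ => by
      have := DFunLike.congr_fun hχ (QuotientGroup.mk' OE y)
      rw [hactV, MulAut.one_apply] at this
      exact mem_subgroupOf.1 (QuotientGroup.eq.1 this.symm)
    have h1 := hmove φ hφk
    have h2 := hmove ψ hψk
    calc φ (ψ (y : P)) = φ ((y : P) * ((y : P)⁻¹ * ψ (y : P))) := by rw [mul_inv_cancel_left]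
      _ = (y : P) * ((y : P)⁻¹ * φ (y : P)) * ((y : P)⁻¹ * ψ (y : P)) := by
        rw [map_mul, hΓ φ hφ _ h2, mul_inv_cancel_left]
      _ = (y : P) * ((y : P)⁻¹ * ψ (y : P)) * ((y : P)⁻¹ * φ (y : P)) := by
        rw [mul_assoc (y : P), ← mem_center_iff.1 h2.1 _ |>.symm, ← mul_assoc]
      _ = ψ ((y : P) * ((y : P)⁻¹ * φ (y : P))) := by rw [map_mul, hΓ ψ hψ _ h1, mul_inv_cancel_left]
      _ = ψ (φ (y : P)) := by rw [mul_inv_cancel_left]
  have := isSolvable_range_of_two Γ.subtype (resE.comp Γ.subtype)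
    (by rw [MonoidHom.range_comp, Subgroup.range_subtype]; exact hE) ?_
  · rwa [Subgroup.range_subtype] at this
  have hpg : IsPGroup 2 ((resE.comp Γ.subtype).ker.map Γ.subtype) := by
    rintro ⟨_, ⟨φ, hφ⟩, hk, rfl⟩
    obtain ⟨n, hn⟩ := pow_two_pow_eq_one hP hinv φ fun x hx =>
      congrArg Subtype.val (DFunLike.congr_fun (MonoidHom.mem_ker.1 hk) (⟨x, hx⟩ : E))
    exact ⟨n, Subtype.ext (by rw [SubmonoidClass.coe_pow]; exact hn)⟩
  haveI := hpg.isNilpotent
  infer_instance

end CfsgLib.OutSylowC
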