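import Cfsg.Agent.OutSylowC.Six

/-!
The case of a Sylow seven-subgroup of order seven acting on the nine lines it fixes, and the
summary: the normaliser of a transitive group is soluble modulo the group.
-/

set_option autoImplicit false
set_option linter.unusedSectionVars false
set_option linter.style.haveILetI false

universe u

namespace CfsgLib.OutSylowC

open Subgroup
open scoped commutatorElement

variable {W : Type u} [CommGroup W] [Finite W]

theorem card_sup_ge {S T : Subgroup W} (h : S ⊓ T = ⊥) :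
    Nat.card S * Nat.card T ≤ Nat.card (S ⊔ T : Subgroup W) := by
  rw [← Nat.card_prod]
  refine Nat.card_le_card_of_injective
    (fun p => ⟨(p.1 : W) * p.2, mul_mem (mem_sup_left p.1.2) (mem_sup_right p.2.2)⟩) ?_
  rintro ⟨a, b⟩ ⟨a', b'⟩ e
  have e' : (a : W) * b = a' * b' := congrArg Subtype.val e
  have e'' : (a' : W)⁻¹ * a = b' * (b : W)⁻¹ := by
    rw [eq_mul_inv_iff_mul_eq, mul_assoc, e', inv_mul_cancel_left]
  have h1 : (a' : W)⁻¹ * a ∈ S ⊓ T :=
    ⟨S.mul_mem (S.inv_mem a'.2) a.2, e''.symm ▸ T.mul_mem b'.2 (T.inv_mem b.2)⟩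
  rw [h, mem_bot, inv_mul_eq_one] at h1
  obtain rfl : a' = a := Subtype.ext h1
  exact Prod.ext rfl (Subtype.ext (mul_left_cancel e'))

/-- If the image in the quotient of the normaliser of a cyclic Sylow subgroup's centraliser is
soluble, so is the quotient. -/
theorem isSolvable_of_commutator_le {H : Type*} [Group H] (D : Subgroup H) [Group.IsSolvable D]
    (h : commutator H ≤ D) : Group.IsSolvable H :=
  Group.isSolvable_of_ker_le_range D.subtype (Abelianization.of (G := H))
    (by rw [Subgroup.range_subtype, Abelianization.ker_of]; exact h)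

set_option maxHeartbeats 1600000 in
/-- The case of a Sylow seven-subgroup of order seven. -/
theorem isSolvable_normQuot_seven (h2 : ∀ v : W, v * v = 1) (hn : Nat.card W = 2 ^ 6)
    (X : Subgroup (MulAut W)) (htr : ∀ v w : W, v ≠ 1 → w ≠ 1 → ∃ x ∈ X, x v = w)
    (h49 : ¬ 49 ∣ Nat.card X) (h27 : 27 ∣ Nat.card X) : Group.IsSolvable (normQuot X) := by
  classical
  haveI : Fact (Nat.Prime 7) := ⟨by norm_num⟩
  haveI : Fact (Nat.Prime 3) := ⟨Nat.prime_three⟩
  haveI : Nontrivial W := Finite.one_lt_card_iff_nontrivial.1 (hn ▸ by norm_num)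
  let P : Sylow 7 X := default
  set R := (P : Subgroup X).map X.subtype with hR
  have hRp : IsPGroup 7 R := P.isPGroup'.map _
  have h7X : 7 ∣ Nat.card X := dvd_card_of_transitive X htr (by rw [hn]; norm_num) (hn ▸ by norm_num)
  have hR7 : Nat.card R = 7 := by
    rw [hR, Subgroup.card_map_of_injective X.subtype_injective]
    obtain ⟨k, hk⟩ := IsPGroup.iff_card.1 P.isPGroup'
    have h1 : 7 ^ 1 ∣ Nat.card (P : Subgroup X) := P.pow_dvd_card_of_pow_dvd_card (by simpa using h7X)
    have h3 : Nat.card (P : Subgroup X) ∣ Nat.card X := Subgroup.card_subgroup_dvd_card _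
    rw [hk] at h1 h3 ⊢
    have h4 : 1 ≤ k := (Nat.pow_dvd_pow_iff_le_right (by norm_num)).1 h1
    have h5 : k < 2 := by
      by_contra hge
      exact h49 ((pow_dvd_pow 7 (not_lt.1 hge)).trans h3)
    rw [show k = 1 by omega]
    norm_num
  haveI : IsCyclic R := isCyclic_of_prime_card hR7
  obtain ⟨g, hgen⟩ : ∃ g : MulAut W, zpowers g = R := (Subgroup.isCyclic_iff_exists_zpowers_eq_top R).1 inferInstance
  have hg : g ∈ R := hgen ▸ mem_zpowers g
  have hg1 : g ≠ 1 := fun h => by
    rw [h, zpowers_one_eq_bot] at hgen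
    rw [← hgen, card_bot] at hR7
    omega
  have hfree : ∀ p ∈ R, p ≠ 1 → fix1 p = ⊥ := by
    intro p hp hp1
    refine (eq_bot_iff_forall _).2 fun w hw => ?_
    by_contra hw1
    obtain ⟨Xw, hXw, hc⟩ := exists_stab X htr hw1
    have hpm : p ∈ Xw := (hXw p).2 ⟨map_subtype_le _ hp, mem_fix1.1 hw⟩
    have ho : orderOf p = 7 := by
      have h := orderOf_dvd_natCard (⟨p, hp⟩ : R)
      rw [Subgroup.orderOf_mk, hR7] at h
      rcases (Nat.dvd_prime (by norm_num)).1 h with h | h
      · exact absurd (orderOf_eq_one_iff.1 h) hp1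
      · exact h
    have h3 := orderOf_dvd_natCard (⟨p, hpm⟩ : Xw)
    rw [Subgroup.orderOf_mk, ho] at h3
    obtain ⟨t, ht⟩ := h3
    exact h49 ⟨9 * t, by rw [hc, hn, ht]; ring⟩
  have hspan : ∀ u : W, Nat.card (orbSpan g u) = 1 ∨ Nat.card (orbSpan g u) = 8 ∨
      Nat.card (orbSpan g u) = 64 := by
    intro u
    have hd := card_dvd_of_semiregular (P := zpowers g) (orbSpan g u) ?_
      (fun p hp hp1 x _ hx => mem_bot.1 (hfree p (hgen ▸ hp) hp1 ▸ mem_fix1.2 hx))
    · obtain ⟨j, hj, hcard⟩ := mem_of_two_pow h2 hn (orbSpan g u)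
      rw [hgen, hR7, hcard] at hd
      rw [hcard]
      interval_cases j <;> simp_all
    intro p hp x hx
    obtain ⟨k, rfl⟩ := (isOfFinOrder_of_finite g).mem_powers_iff_mem_zpowers.2 hp
    clear hp
    show (g ^ k) x ∈ _
    induction k with
    | zero => exact hx
    | succ k ih => rw [pow_succ', MulAut.mul_apply]; exact map_mem_orbSpan g u ih
  by_cases hfull : ∃ u, orbSpan g u = ⊤
  · obtain ⟨u, hu⟩ := hfull
    refine isSolvable_normQuot_of_normalizer X P (isSolvable_of_normalizes_zpowers g _ (fun x hx => ?_)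
      fun a _ b _ ha hb => comm_of_orbSpan hu ha hb)
    rw [hgen]
    exact (mem_normalizer_iff.1 hx g).1 hg
  push Not at hfull
  have hline : ∀ u : W, u ≠ 1 → Nat.card (orbSpan g u) = 8 := by
    intro u hu
    rcases hspan u with h | h | h
    · exact absurd (mem_bot.1 (Subgroup.eq_bot_of_card_eq _ h ▸ self_mem_orbSpan g u)) hu
    · exact h
    · exact absurd (Subgroup.eq_top_of_card_eq _ (h.trans (by rw [hn]; norm_num))) (hfull u)
  -- the lines
  let Λ := {S : Subgroup W // Nat.card S = 8 ∧ ∀ x ∈ S, g x ∈ S}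
  have hself : ∀ S : Λ, ∀ u ∈ S.1, u ≠ 1 → orbSpan g u = S.1 := fun S u hu hu1 =>
    eq_of_le_of_card_ge (orbSpan_le g hu S.2.2) (by rw [S.2.1, hline u hu1])
  have hmeet : ∀ S T : Λ, S ≠ T → S.1 ⊓ T.1 = ⊥ := fun S T hne => (eq_bot_iff_forall _).2 fun x hx => by
    by_contra hx1
    exact hne (Subtype.ext ((hself S x hx.1 hx1).symm.trans (hself T x hx.2 hx1)))
  have hexu : ∀ S : Λ, ∃ u ∈ S.1, u ≠ 1 := fun S => (bot_or_exists_ne_one S.1).resolve_left fun h => by
    have := S.2.1
    rw [h, card_bot] at this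
    omega
  haveI : Finite Λ := Subtype.finite
  have hΛ : Nat.card Λ = 9 := by
    have hkey : ∀ p q : Σ S : Λ, {u : S.1 // u ≠ 1}, (p.2.1 : W) = q.2.1 → p = q := by
      rintro ⟨S, ⟨u, hu⟩, hu1⟩ ⟨S', ⟨u', hu'⟩, hu1'⟩ (rfl : u = u')
      obtain rfl : S = S' := Subtype.ext ((hself S u hu fun h => hu1 (Subtype.ext h)).symm.trans
        (hself S' u hu' fun h => hu1 (Subtype.ext h)))
      rfl
    let e : {u : W // u ≠ 1} ≃ Σ S : Λ, {u : S.1 // u ≠ 1} :=
      { toFun := fun u => ⟨⟨orbSpan g u.1, hline u.1 u.2, fun x hx => map_mem_orbSpan g u.1 hx⟩,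
          ⟨u.1, self_mem_orbSpan g u.1⟩, fun h => u.2 (congrArg Subtype.val h)⟩
        invFun := fun p => ⟨p.2.1.1, fun h => p.2.2 (Subtype.ext h)⟩
        left_inv := fun u => rfl
        right_inv := fun p => hkey _ p rfl }
    haveI : Fintype Λ := Fintype.ofFinite Λ
    haveI := Fintype.ofFinite W
    have h := Nat.card_congr e
    rw [Nat.card_sigma, Finset.sum_const_nat (m := 7), Finset.card_univ, ← Nat.card_eq_fintype_card,
      Nat.card_eq_fintype_card, Fintype.card_subtype_compl, Fintype.card_subtype_eq,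
      ← Nat.card_eq_fintype_card, hn] at h
    · norm_num at h ⊢
      omega
    intro S _
    haveI := Fintype.ofFinite S.1
    rw [Nat.card_eq_fintype_card, Fintype.card_subtype_compl, Fintype.card_subtype_eq,
      ← Nat.card_eq_fintype_card, S.2.1]
  -- the centraliser
  set N := normalizer (X : Set (MulAut W)) with hN
  let J : Subgroup (MulAut W) := centralizer ({g} : Set (MulAut W)) ⊓ N
  have hJg : ∀ j ∈ J, Commute j g := fun j hj => mem_centralizer_singleton_iff.1 hj.1
  let π := QuotientGroup.mk' (X.subgroupOf N)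
  let ψ : J →* normQuot X := π.comp (Subgroup.inclusion inf_le_right)
  suffices hD : Group.IsSolvable ψ.range by
    haveI := hD
    refine isSolvable_of_commutator_le ψ.range ?_
    rw [_root_.commutator_def]
    refine commutator_le.2 fun a _ b _ => ?_
    obtain ⟨x, hx, rfl⟩ := (map_normalizer_eq_top X P).ge (mem_top a)
    obtain ⟨y, hy, rfl⟩ := (map_normalizer_eq_top X P).ge (mem_top b)
    haveI : IsCyclic (zpowers g) := by rw [hgen]; infer_instance
    have hcom : ∀ φ φ' : MulAut R, φ * φ' = φ' * φ := fun φ φ' =>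
      (IsCyclic.mulAutMulEquiv R).injective (by rw [map_mul, map_mul, mul_comm])
    set xr : normalizer (R : Set (MulAut W)) := ⟨(x : MulAut W), hx⟩
    set yr : normalizer (R : Set (MulAut W)) := ⟨(y : MulAut W), hy⟩
    have hk : ⁅xr, yr⁆ ∈ (normalizerMonoidHom R).ker := by
      rw [MonoidHom.mem_ker, map_commutatorElement, commutatorElement_eq_one_iff_mul_comm]
      exact hcom _ _
    rw [normalizerMonoidHom_ker] at hk
    have hc : ((⁅x, y⁆ : N) : MulAut W) ∈ centralizer ({g} : Set (MulAut W)) :=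
      mem_centralizer_iff.2 fun a ha => mem_centralizer_iff.1 (mem_subgroupOf.1 hk) a
        (by rw [Set.mem_singleton_iff.1 ha]; exact hg)
    exact ⟨⟨((⁅x, y⁆ : N) : MulAut W), hc, (⁅x, y⁆ : N).2⟩, map_commutatorElement π x y⟩
  have hmap : ∀ j : J, ∀ S : Λ, Nat.card (S.1.map ((j : MulAut W) : W →* W)) = 8 ∧
      ∀ x ∈ S.1.map ((j : MulAut W) : W →* W), g x ∈ S.1.map ((j : MulAut W) : W →* W) := by
    intro j S
    refine ⟨(Subgroup.card_map_of_injective (j : MulAut W).injective).trans S.2.1, ?_⟩
    rintro _ ⟨x, hx, rfl⟩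
    exact ⟨g x, S.2.2 x hx, DFunLike.congr_fun (hJg j j.2).eq x⟩
  letI : MulAction J Λ :=
    { smul := fun j S => ⟨S.1.map ((j : MulAut W) : W →* W), hmap j S⟩
      one_smul := fun S => Subtype.ext (Subgroup.map_id _)
      mul_smul := fun x y S => Subtype.ext (by
        show S.1.map (((x * y : J) : MulAut W) : W →* W) = (S.1.map ((y : MulAut W) : W →* W)).map _
        rw [Subgroup.map_map]
        rfl) }
  have hfixS : ∀ (j : J) (S : Λ), j • S = S → ∀ x ∈ S.1, (j : MulAut W) x ∈ S.1 := fun j S h x hx =>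
    (congrArg Subtype.val h).le ⟨x, hx, rfl⟩
  haveI : Nontrivial Λ := Finite.one_lt_card_iff_nontrivial.1 (hΛ ▸ by norm_num)
  have hsolst : ∀ S : Λ, Group.IsSolvable (MulAction.stabilizer J S) := by
    intro S
    obtain ⟨u, hu, hu1⟩ := hexu S
    obtain ⟨T, hT⟩ := exists_ne S
    obtain ⟨v, hv, hv1⟩ := hexu T
    have hsup : S.1 ⊔ orbSpan g v = ⊤ := by
      rw [hself T v hv hv1]
      refine Subgroup.eq_top_of_card_eq _ (le_antisymm (Subgroup.card_le_card_group _) ?_)
      refine le_trans (le_of_eq ?_) (card_sup_ge (hmeet S T hT.symm))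
      rw [S.2.1, T.2.1, hn]; norm_num
    let Js : Subgroup (MulAut W) := (MulAction.stabilizer J S).map J.subtype
    haveI : Group.IsSolvable Js := isSolvable_stab_line h2 S.1 g S.2.2 (hself S u hu hu1) hsup Js
      (by rintro _ ⟨j, -, rfl⟩; exact hJg j j.2) (by rintro _ ⟨j, hj, rfl⟩; exact hfixS j S hj)
    exact Group.isSolvable_of_isSolvable_injective
      (f := ((J.subtype.comp (MulAction.stabilizer J S).subtype)).codRestrict Js fun x => ⟨x.1, x.2, rfl⟩)
      (fun a b e => Subtype.ext (Subtype.ext (congrArg Subtype.val e :)))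
  by_cases hsmall : ∃ S : Λ, Nat.card (MulAction.orbit J S) ≤ 4
  · obtain ⟨S, hS⟩ := hsmall
    haveI : Group.IsSolvable J := isSolvable_of_small_orbit S hS (hsolst S)
    exact Group.isSolvable_of_surjective ψ.rangeRestrict_surjective
  push Not at hsmall
  obtain ⟨S0, -⟩ : ∃ S : Λ, True := ⟨Classical.arbitrary Λ, trivial⟩
  have horb : ∀ T : Λ, T ∈ MulAction.orbit J S0 := by
    intro T
    by_contra hT
    haveI : Fintype Λ := Fintype.ofFinite Λ
    have hdis : Disjoint (MulAction.orbit J S0) (MulAction.orbit J T) := by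
      rw [Set.disjoint_left]
      intro U hU hU'
      exact hT (MulAction.orbit_eq_iff.1 ((MulAction.orbit_eq_iff.2 hU').symm.trans (MulAction.orbit_eq_iff.2 hU)))
    have h1 := hsmall S0
    have h3 := hsmall T
    rw [Nat.card_coe_set_eq] at h1 h3
    have h4 : (MulAction.orbit J S0 ∪ MulAction.orbit J T).ncard ≤ 9 :=
      hΛ ▸ Set.ncard_le_card _
    rw [Set.ncard_union_eq hdis (Set.toFinite _) (Set.toFinite _)] at h4
    omega
  let st := MulAction.stabilizer J S0
  have hidx : st.index = 9 := by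
    rw [MulAction.index_stabilizer, show MulAction.orbit J S0 = Set.univ from Set.eq_univ_of_forall horb,
      Set.ncard_univ, hΛ]
  let JX := X.subgroupOf J
  haveI hJXn : JX.Normal := ⟨fun n hn' j => mem_subgroupOf.2
    ((mem_normalizer_iff.1 j.2.2 _).1 (mem_subgroupOf.1 hn'))⟩
  let K := st ⊔ JX
  have hKmul := Subgroup.relIndex_mul_index (le_sup_left : st ≤ K)
  rw [hidx] at hKmul
  have hKdvd : K.index ∣ 9 := ⟨_, (hKmul.symm.trans (mul_comm _ _))⟩
  rcases (show K.index = 1 ∨ K.index = 3 ∨ K.index = 9 by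
    have hle := Nat.le_of_dvd (by norm_num) hKdvd
    interval_cases h : K.index <;> simp_all) with hK | hK | hK
  · -- the stabiliser already covers the quotient
    haveI := hsolst S0
    refine Group.isSolvable_of_surjective (f := (ψ.comp st.subtype).codRestrict ψ.range
      fun x => ⟨x.1, rfl⟩) ?_
    rintro ⟨_, j, rfl⟩
    have hj : j ∈ st ⊔ JX := by
      show j ∈ K
      rw [index_eq_one.1 hK]
      exact mem_top j
    rw [mem_sup_of_normal_right] at hj
    obtain ⟨a, ha, b, hb, rfl⟩ := hj
    refine ⟨⟨a, ha⟩, Subtype.ext ?_⟩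
    show ψ a = ψ (a * b)
    rw [map_mul, show ψ b = 1 from (QuotientGroup.eq_one_iff _).2 (mem_subgroupOf.2 (mem_subgroupOf.1 hb)),
      mul_one]
  · -- three blocks
    haveI : Group.IsSolvable J := by
      haveI hKs : Group.IsSolvable K := by
        refine isSolvable_of_small_orbit S0 ?_ ?_
        · rw [← Nat.card_congr (MulAction.orbitEquivQuotientStabilizer K S0).symm,
            ← Subgroup.index_eq_card]
          have e : MulAction.stabilizer K S0 = st.subgroupOf K := by ext; rfl
          rw [e]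
          show st.relIndex K ≤ 4
          have h3 : st.relIndex K * 3 = 9 := by rw [← hK]; exact hKmul
          omega
        · haveI := hsolst S0
          exact Group.isSolvable_of_isSolvable_injective
            (f := (K.subtype.comp (MulAction.stabilizer K S0).subtype).codRestrict st fun x => x.2)
            (fun a b e => Subtype.ext (Subtype.ext (congrArg Subtype.val e :)))
      refine isSolvable_of_small_orbit ((1 : J) : J ⧸ K) ?_ ?_
      · exact (Finite.card_subtype_le _).trans (by rw [← Subgroup.index_eq_card, hK]; norm_num)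
      · rw [MulAction.stabilizer_quotient]; exact hKs
    exact Group.isSolvable_of_surjective ψ.rangeRestrict_surjective
  · exfalso
    have hle : JX ≤ st := by
      have h1 : st.relIndex K = 1 := by
        have h3 : st.relIndex K * 9 = 9 := by
          nth_rewrite 1 [← hK]
          exact hKmul
        omega
      exact le_sup_right.trans (relIndex_eq_one.1 h1)
    have hall : ∀ j ∈ JX, ∀ T : Λ, j • T = T := by
      intro j hj T
      obtain ⟨x, rfl⟩ := horb T
      have h1 : (x⁻¹ * j * x) • S0 = S0 := hle (by simpa using hJXn.conj_mem j hj x⁻¹)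
      calc j • x • S0 = x • (x⁻¹ * j * x) • S0 := by rw [← mul_smul, ← mul_smul]; group
        _ = x • S0 := by rw [h1]
    have h3JX : ¬ 3 ∣ Nat.card JX := by
      intro h3
      obtain ⟨⟨j, hjX⟩, hjo⟩ := exists_prime_orderOf_dvd_card' (G := JX) 3 h3
      rw [Subgroup.orderOf_mk] at hjo
      have hfix : ∀ S : Λ, ∀ x ∈ S.1, (j : MulAut W) x = x := by
        intro S x hx
        have hp : IsPGroup 3 (zpowers (j : MulAut W)) := IsPGroup.of_card (n := 1) (by
          rw [Nat.card_zpowers, Subgroup.orderOf_coe, hjo, pow_one])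
        have h := card_modEq_fix hp S.1 fun q hq y hy => by
          obtain ⟨k, rfl⟩ := (isOfFinOrder_of_finite (j : MulAut W)).mem_powers_iff_mem_zpowers.2 hq
          clear hq
          show ((j : MulAut W) ^ k) y ∈ _
          induction k with
          | zero => exact hy
          | succ k ih =>
            rw [pow_succ', MulAut.mul_apply]
            exact hfixS j S (hall j hjX S) _ ih
        rw [fixOf_zpowers, S.2.1] at h
        -- the fixed line is invariant under `g`
        have hinv : ∀ y ∈ S.1 ⊓ fix1 (j : MulAut W), g y ∈ S.1 ⊓ fix1 (j : MulAut W) := fun y hy =>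
          ⟨S.2.2 y hy.1, map_mem_fixOf (fun a ha => by
            rw [Set.mem_singleton_iff.1 ha]; exact hJg j j.2) hy.2⟩
        by_cases hb : ∀ y ∈ S.1 ⊓ fix1 (j : MulAut W), y = 1
        · rw [(eq_bot_iff_forall _).2 hb, card_bot] at h
          exact absurd h (by unfold Nat.ModEq; norm_num)
        push Not at hb
        obtain ⟨y, hy, hy1⟩ := hb
        exact mem_fix1.1 ((hself S y hy.1 hy1 ▸ orbSpan_le g hy hinv) hx).2
      have : j = 1 := Subtype.ext (MulEquiv.ext fun x => by
        by_cases hx : x = 1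
        · rw [hx, map_one, map_one]
        exact hfix ⟨orbSpan g x, hline x hx, fun y hy => map_mem_orbSpan g x hy⟩ x (self_mem_orbSpan g x))
      rw [this, orderOf_one] at hjo
      omega
    have hker : ψ.ker = JX := by
      ext j
      rw [MonoidHom.mem_ker]
      exact (QuotientGroup.eq_one_iff _).trans (Iff.rfl)
    have h9Q : 9 ∣ Nat.card (normQuot X) := by
      refine dvd_trans ?_ (Subgroup.card_subgroup_dvd_card ψ.range)
      rw [← index_ker, hker]
      have h9J : 3 ^ 2 ∣ Nat.card J := ⟨Nat.card st, by rw [← Subgroup.index_mul_card st, hidx]; norm_num⟩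
      rw [← Subgroup.index_mul_card JX] at h9J
      exact ((Nat.prime_three.coprime_iff_not_dvd.2 h3JX).pow_left 2).dvd_of_dvd_mul_right h9J
    have hbig : 243 ∣ Nat.card (MulAut W) := by
      refine dvd_trans ?_ (Subgroup.card_subgroup_dvd_card N)
      rw [hN, card_normalizer]
      exact Nat.mul_dvd_mul h9Q h27
    exact absurd (hbig.trans (card_mulAut_dvd_six h2 hn)) (by norm_num)

/-- The normaliser of a transitive group of automorphisms is soluble modulo the group. -/
theorem isSolvable_normQuot (h2 : ∀ v : W, v * v = 1) (X : Subgroup (MulAut W))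
    (htr : ∀ v w : W, v ≠ 1 → w ≠ 1 → ∃ x ∈ X, x v = w) : Group.IsSolvable (normQuot X) := by
  obtain ⟨n, hn⟩ := CfsgLib.QuadMap.exists_card_eq h2
  by_cases hn2 : n ≤ 2
  · haveI := CfsgLib.FTRows.OutSylow.isSolvable_mulAut_small (Q := W)
      (hn ▸ Nat.pow_le_pow_right (by norm_num) hn2)
    haveI : Group.IsSolvable (normalizer (X : Set (MulAut W))) :=
      Group.isSolvable_of_isSolvable_injective (Subgroup.subtype_injective _)
    exact Group.isSolvable_of_surjective (QuotientGroup.mk'_surjective _)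
  by_cases h6 : n = 6
  · subst h6
    by_cases h27 : 27 ∣ Nat.card X
    · by_cases h49 : 49 ∣ Nat.card X
      · exact isSolvable_normQuot_fortyNine h2 hn X h49
      · exact isSolvable_normQuot_seven h2 hn X htr h49 h27
    · exact isSolvable_normQuot_nine h2 hn X htr h27
  · exact isSolvable_normQuot_of_ne_six h2 hn (by omega) h6 X htr

end CfsgLib.OutSylowC
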