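import Cfsg.Agent.OutSylowC.CentralOmega
import Cfsg.Agent.OutSylowC.Lines
import Cfsg.Agent.FTRows.OutSylow

/-!
Case (c): commuting conjugate involutions in a Sylow two-subgroup give a soluble outer automorphism
group.
-/

set_option autoImplicit false
set_option linter.unusedSectionVars false
set_option linter.style.haveILetI false

universe u

namespace CfsgLib.OutSylowC

open Subgroup
open scoped commutatorElement
open CfsgLib.FTRows.OutSylow (stab res)

variable {G : Type u} [Group G] [Finite G]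

/-- Elements of `H` squaring to one, given that they commute. -/
def omegaH (H : Subgroup G) (hc : ∀ s ∈ H, ∀ t ∈ H, s * s = 1 → t * t = 1 → s * t = t * s) : Subgroup G where
  carrier := {x | x ∈ H ∧ x * x = 1}
  one_mem' := ⟨one_mem _, one_mul 1⟩
  mul_mem' := fun {a b} ha hb => ⟨mul_mem ha.1 hb.1, by
    rw [show a * b * (a * b) = a * (b * a) * b by group, hc b hb.1 a ha.1 hb.2 ha.2,
      show a * (a * b) * b = (a * a) * (b * b) by group, ha.2, hb.2, one_mul]⟩
  inv_mem' := fun {a} ha => ⟨inv_mem ha.1, by rw [← mul_inv_rev, ha.2, inv_one]⟩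

variable {S : Sylow 2 G}
  {hc : ∀ s ∈ (S : Subgroup G), ∀ t ∈ (S : Subgroup G), s * s = 1 → t * t = 1 → s * t = t * s}

/-- In any two-subgroup containing `Ω`, the involutions lie in `Ω`. -/
theorem mem_omega_of_isPGroup {Q : Subgroup G} (hQ : IsPGroup 2 Q)
    (hΩQ : omegaH (S : Subgroup G) hc ≤ Q) {x : G} (hx : x ∈ Q) (hx2 : x * x = 1) :
    x ∈ omegaH (S : Subgroup G) hc := by
  haveI : Fact (Nat.Prime 2) := ⟨Nat.prime_two⟩
  obtain ⟨T, hT⟩ := hQ.exists_le_sylow
  obtain ⟨g, rfl⟩ := MulAction.exists_smul_eq G S T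
  set Ω := omegaH (S : Subgroup G) hc
  have hback : ∀ y ∈ (g • S : Sylow 2 G).toSubgroup, y * y = 1 → g⁻¹ * y * g ∈ Ω := by
    intro y hy hy2
    rw [Sylow.coe_subgroup_smul] at hy
    obtain ⟨s, hs, e⟩ := hy
    have e' : g⁻¹ * y * g = s := by rw [← e]; simp [MulAut.conj_apply, mul_assoc]
    exact ⟨e' ▸ hs, by rw [show g⁻¹ * y * g * (g⁻¹ * y * g) = g⁻¹ * (y * y) * g by group, hy2, mul_one,
      inv_mul_cancel]⟩
  have hmap : Ω.map (MulAut.conj g⁻¹).toMonoidHom = Ω := by
    refine eq_of_le_of_card_ge ?_ (Subgroup.card_map_of_injective (MulAut.conj g⁻¹).injective).ge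
    rintro _ ⟨y, hy, rfl⟩
    simpa [MulAut.conj_apply] using hback y (hT (hΩQ hy)) hy.2
  have h1 := hback x (hT hx) hx2
  obtain ⟨y, hy, e⟩ := hmap.ge h1
  have : y = x := by
    have e' : g⁻¹ * y * g = g⁻¹ * x * g := by simpa [MulAut.conj_apply] using e
    exact mul_left_cancel (mul_right_cancel e')
  exact this ▸ hy

theorem isPGroup_omega : IsPGroup 2 (omegaH (S : Subgroup G) hc) := S.isPGroup'.to_le fun _ h => h.1

/-- Fusion of involutions is controlled by the normaliser of `Ω`. -/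
theorem exists_normalizer_conj {s t : G} (hs : s ∈ omegaH (S : Subgroup G) hc)
    (ht : t ∈ omegaH (S : Subgroup G) hc) (h : ∃ g : G, g * s * g⁻¹ = t) :
    ∃ n ∈ normalizer ((omegaH (S : Subgroup G) hc : Subgroup G) : Set G), n * s * n⁻¹ = t := by
  haveI : Fact (Nat.Prime 2) := ⟨Nat.prime_two⟩
  set Ω := omegaH (S : Subgroup G) hc
  obtain ⟨g, hg⟩ := h
  set C := centralizer ({t} : Set G)
  have h1 : Ω ≤ C := fun y hy => mem_centralizer_singleton_iff.2 (hc y hy.1 t ht.1 hy.2 ht.2)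
  have h2 : Ω.map (MulAut.conj g).toMonoidHom ≤ C := by
    rintro _ ⟨y, hy, rfl⟩
    refine mem_centralizer_singleton_iff.2 ?_
    show g * y * g⁻¹ * t = t * (g * y * g⁻¹)
    rw [← hg, show g * y * g⁻¹ * (g * s * g⁻¹) = g * (y * s) * g⁻¹ by group, hc y hy.1 s hs.1 hy.2 hs.2]
    group
  have hp1 : IsPGroup 2 (Ω.subgroupOf C) :=
    (isPGroup_omega (S := S) (hc := hc)).of_equiv (subgroupOfEquivOfLe h1).symm
  have hp2 : IsPGroup 2 ((Ω.map (MulAut.conj g).toMonoidHom).subgroupOf C) :=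
    ((isPGroup_omega (S := S) (hc := hc)).map _).of_equiv (subgroupOfEquivOfLe h2).symm
  obtain ⟨Q1, hQ1⟩ := hp1.exists_le_sylow
  obtain ⟨Q2, hQ2⟩ := hp2.exists_le_sylow
  obtain ⟨c, hcQ⟩ := MulAction.exists_smul_eq C Q2 Q1
  refine ⟨(c : G) * g, ?_, ?_⟩
  · have hle : ∀ y ∈ Ω, (c : G) * g * y * ((c : G) * g)⁻¹ ∈ Ω := by
      intro y hy
      refine mem_omega_of_isPGroup (Q := (Q1 : Subgroup C).map C.subtype) (Q1.isPGroup'.map _)
        (fun z hz => ⟨⟨z, h1 hz⟩, hQ1 hz, rfl⟩) ?_ ?_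
      · have hy' : (⟨g * y * g⁻¹, h2 ⟨y, hy, rfl⟩⟩ : C) ∈ (Q2 : Subgroup C) := hQ2 ⟨y, hy, rfl⟩
        refine ⟨c * ⟨g * y * g⁻¹, h2 ⟨y, hy, rfl⟩⟩ * c⁻¹, ?_, ?_⟩
        · rw [← hcQ]
          show _ ∈ ((c • Q2 : Sylow 2 C) : Subgroup C)
          rw [Sylow.coe_subgroup_smul]
          exact ⟨_, hy', rfl⟩
        · show (c : G) * (g * y * g⁻¹) * (c : G)⁻¹ = _
          group
      · rw [show (c : G) * g * y * ((c : G) * g)⁻¹ * ((c : G) * g * y * ((c : G) * g)⁻¹) =
          (c : G) * g * (y * y) * ((c : G) * g)⁻¹ by group, hy.2, mul_one, mul_inv_cancel]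
    have hmap : Ω.map (MulAut.conj ((c : G) * g)).toMonoidHom = Ω :=
      eq_of_le_of_card_ge (by rintro _ ⟨y, hy, rfl⟩; exact hle y hy)
        (Subgroup.card_map_of_injective (MulAut.conj ((c : G) * g)).injective).ge
    refine mem_normalizer_iff.2 fun y => ⟨hle y, fun hy => ?_⟩
    obtain ⟨z, hz, e⟩ := hmap.ge hy
    exact ((MulAut.conj ((c : G) * g)).injective e) ▸ hz
  · have hcc := mem_centralizer_singleton_iff.1 c.2
    rw [show (c : G) * g * s * ((c : G) * g)⁻¹ = (c : G) * (g * s * g⁻¹) * (c : G)⁻¹ by group, hg, hcc,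
      mul_inv_cancel_right]

/-- The statement for case (c). -/
theorem out_solvable_commuting (hFT : CfsgLib.FTRows.OddSolvable.{u}) [IsSimpleGroup G]
    (hG : ¬ IsMulCommutative G) (S : Sylow 2 G) (hS1 : (S : Subgroup G) ≠ ⊥)
    (hc : ∀ s ∈ (S : Subgroup G), ∀ t ∈ (S : Subgroup G), s * s = 1 → t * t = 1 → s * t = t * s)
    (hconj : ∀ s ∈ (S : Subgroup G), ∀ t ∈ (S : Subgroup G), orderOf s = 2 → orderOf t = 2 →
      ∃ g : G, g * s * g⁻¹ = t) : Group.IsSolvable (Cfsg.Out G) := by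
  classical
  haveI : Fact (Nat.Prime 2) := ⟨Nat.prime_two⟩
  refine CfsgLib.FTRows.OutSylow.out_solvable hFT hG S hS1 ?_
  set H : Subgroup G := (S : Subgroup G) with hHdef
  set Ω := omegaH H hc
  set C0 := H ⊓ centralizer (Ω : Set G)
  set N := normalizer (Ω : Set G)
  have hΩC0 : Ω ≤ C0 := fun x hx => ⟨hx.1, mem_centralizer_iff.2 fun y hy => hc y hy.1 x hx.1 hy.2 hx.2⟩
  have hΩ : ∀ φ : stab H, ∀ x ∈ Ω, (φ : MulAut G) x ∈ Ω := fun φ x hx =>
    ⟨(φ.2 x).2 hx.1, by rw [← map_mul, hx.2, map_one]⟩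
  have hΩi : ∀ φ : stab H, ∀ x, (φ : MulAut G) x ∈ Ω → x ∈ Ω := fun φ x hx =>
    ⟨(φ.2 x).1 hx.1, (φ : MulAut G).injective (by rw [map_mul, hx.2, map_one])⟩
  have hC0 : ∀ φ : stab H, ∀ x ∈ C0, (φ : MulAut G) x ∈ C0 := fun φ x hx =>
    ⟨(φ.2 x).2 hx.1, mem_centralizer_iff.2 fun y hy => by
      obtain ⟨z, rfl⟩ := (φ : MulAut G).surjective y
      rw [← map_mul, ← map_mul, mem_centralizer_iff.1 hx.2 z (hΩi φ z hy)]⟩
  have hC0i : ∀ φ : stab H, ∀ x ∈ C0, (φ : MulAut G)⁻¹ x ∈ C0 := fun φ x hx => hC0 φ⁻¹ x hx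
  letI : CommGroup Ω :=
    { (inferInstance : Group Ω) with
      mul_comm := fun a b => Subtype.ext (hc a a.2.1 b b.2.1 a.2.2 b.2.2) }
  let f : stab H →* MulAut Ω :=
    { toFun := fun φ =>
        { toFun := fun x => ⟨(φ : MulAut G) x, hΩ φ x x.2⟩
          invFun := fun x => ⟨(φ : MulAut G)⁻¹ x, hΩ φ⁻¹ x x.2⟩
          left_inv := fun x => Subtype.ext (MulAut.inv_apply_self G _ _)
          right_inv := fun x => Subtype.ext (MulAut.apply_inv_self G _ _)
          map_mul' := fun x y => Subtype.ext (map_mul (φ : MulAut G) _ _) }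
      map_one' := MulEquiv.ext fun _ => rfl
      map_mul' := fun _ _ => MulEquiv.ext fun _ => rfl }
  let r0 : stab H →* MulAut C0 :=
    { toFun := fun φ =>
        { toFun := fun x => ⟨(φ : MulAut G) x, hC0 φ x x.2⟩
          invFun := fun x => ⟨(φ : MulAut G)⁻¹ x, hC0i φ x x.2⟩
          left_inv := fun x => Subtype.ext (MulAut.inv_apply_self G _ _)
          right_inv := fun x => Subtype.ext (MulAut.apply_inv_self G _ _)
          map_mul' := fun x y => Subtype.ext (map_mul (φ : MulAut G) _ _) }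
      map_one' := MulEquiv.ext fun _ => rfl
      map_mul' := fun _ _ => MulEquiv.ext fun _ => rfl }
  let X : Subgroup (MulAut Ω) := (normalizerMonoidHom Ω).range
  have htrX : ∀ v w : Ω, v ≠ 1 → w ≠ 1 → ∃ x ∈ X, x v = w := by
    intro v w hv hw
    have ho : ∀ a : Ω, a ≠ 1 → orderOf (a : G) = 2 := fun a ha =>
      orderOf_eq_prime (by rw [pow_two]; exact a.2.2) (fun h => ha (Subtype.ext h))
    obtain ⟨n, hn, e⟩ := exists_normalizer_conj v.2 w.2 (hconj v v.2.1 w w.2.1 (ho v hv) (ho w hw))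
    exact ⟨normalizerMonoidHom Ω ⟨n, hn⟩, ⟨_, rfl⟩, Subtype.ext e⟩
  have hΩ2 : ∀ v : Ω, v * v = 1 := fun v => Subtype.ext v.2.2
  -- the image on `Ω`
  have hHN : normalizer (H : Set G) ≤ N := fun g hg => mem_normalizer_iff.2 fun y =>
    ⟨fun hy => ⟨(mem_normalizer_iff.1 hg y).1 hy.1, by
      rw [show g * y * g⁻¹ * (g * y * g⁻¹) = g * (y * y) * g⁻¹ by group, hy.2, mul_one, mul_inv_cancel]⟩,
    fun hy => ⟨(mem_normalizer_iff.1 hg y).2 hy.1, by
      have h := hy.2
      rw [show g * y * g⁻¹ * (g * y * g⁻¹) = g * (y * y) * g⁻¹ by group] at h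
      exact conj_eq_one_iff.1 h⟩⟩
  have hconjφ : ∀ (φ : stab H) (n : N), ∃ m : N, (m : G) = (φ : MulAut G) n := by
    intro φ n
    refine ⟨⟨(φ : MulAut G) n, mem_normalizer_iff.2 fun y => ?_⟩, rfl⟩
    obtain ⟨z, rfl⟩ := (φ : MulAut G).surjective y
    rw [← map_inv, ← map_mul, ← map_mul]
    exact ⟨fun h => hΩ φ _ ((mem_normalizer_iff.1 n.2 z).1 (hΩi φ z h)),
      fun h => hΩ φ _ ((mem_normalizer_iff.1 n.2 z).2 (hΩi φ _ h))⟩
  have hfnorm : f.range ≤ normalizer (X : Set (MulAut Ω)) := by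
    rintro _ ⟨φ, rfl⟩
    have key : ∀ ψ : stab H, ∀ x ∈ X, f ψ * x * (f ψ)⁻¹ ∈ X := by
      rintro ψ _ ⟨n, rfl⟩
      obtain ⟨m, hm⟩ := hconjφ ψ n
      refine ⟨m, MulEquiv.ext fun y => Subtype.ext ?_⟩
      show (m : G) * (y : G) * (m : G)⁻¹ = (ψ : MulAut G) ((n : G) * ((ψ : MulAut G)⁻¹ y) * (n : G)⁻¹)
      rw [map_mul, map_mul, MulAut.apply_inv_self, map_inv, hm]
    refine mem_normalizer_iff.2 fun x => ⟨key φ x, fun h => ?_⟩
    have := key φ⁻¹ _ h
    rwa [map_inv, inv_inv, show (f φ)⁻¹ * (f φ * x * (f φ)⁻¹) * f φ = x by group] at this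
  -- inner part
  have hsolN : Group.IsSolvable (normalizer (H : Set G)) := by
    set M := normalizer (H : Set G)
    let H' := H.subgroupOf M
    haveI : Group.IsNilpotent H' :=
      (S.isPGroup'.of_equiv (subgroupOfEquivOfLe (le_normalizer (H := H))).symm).isNilpotent
    haveI : Group.IsSolvable (M ⧸ H') := hFT _ (by
      rw [← Subgroup.index_eq_card, ← Nat.not_even_iff_odd, even_iff_two_dvd]
      exact (Sylow.subtype S le_normalizer).not_dvd_index)
    exact Group.isSolvable_of_ker_le_range H'.subtype (QuotientGroup.mk' H')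
      (by rw [QuotientGroup.ker_mk', Subgroup.range_subtype])
  have hfX : Group.IsSolvable (X ⊓ f.range : Subgroup (MulAut Ω)) := by
    let ι : normalizer (H : Set G) →* MulAut Ω := (normalizerMonoidHom Ω).comp (Subgroup.inclusion hHN)
    haveI := hsolN
    haveI : Group.IsSolvable ι.range := Group.isSolvable_of_surjective ι.rangeRestrict_surjective
    suffices hle : X ⊓ f.range ≤ ι.range by
      exact Group.isSolvable_of_isSolvable_injective (Subgroup.inclusion_injective hle)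
    rintro x ⟨⟨n, rfl⟩, φ, hφ⟩
    -- `n` normalises `H C(Ω)`; Frattini
    let HN := H.subgroupOf N
    let K : Subgroup N := HN ⊔ (normalizerMonoidHom Ω).ker
    have hHNn : H ≤ N := le_normalizer.trans hHN
    have hnK : ∀ h ∈ HN, n * h * n⁻¹ ∈ K := by
      intro h hh
      have hh' : (h : G) ∈ H := hh
      let h' : N := ⟨(φ : MulAut G) (h : G), hHNn ((φ.2 _).2 hh')⟩
      have e : normalizerMonoidHom Ω (n * h * n⁻¹) = normalizerMonoidHom Ω h' := by
        rw [map_mul, map_mul, map_inv, ← hφ]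
        refine MulEquiv.ext fun y => Subtype.ext ?_
        show (φ : MulAut G) ((h : G) * ((φ : MulAut G)⁻¹ y) * (h : G)⁻¹) =
          (φ : MulAut G) (h : G) * (y : G) * ((φ : MulAut G) (h : G))⁻¹
        rw [map_mul, map_mul, MulAut.apply_inv_self, map_inv]
      rw [show n * h * n⁻¹ = h' * (h'⁻¹ * (n * h * n⁻¹)) by rw [mul_inv_cancel_left]]
      refine mul_mem (mem_sup_left (mem_subgroupOf.2 ((φ.2 _).2 hh'))) (mem_sup_right ?_)
      rw [MonoidHom.mem_ker, map_mul, map_inv, e, inv_mul_cancel]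
    let S1 : Sylow 2 N := Sylow.subtype S hHNn
    have hS1 : (S1 : Subgroup N) ≤ K := le_sup_left
    have hS2 : ((n • S1 : Sylow 2 N) : Subgroup N) ≤ K := by
      rw [Sylow.coe_subgroup_smul]
      rintro _ ⟨h, hh, rfl⟩
      exact hnK h hh
    obtain ⟨k, hk⟩ := MulAction.exists_smul_eq K (S1.subtype hS1) ((n • S1).subtype hS2)
    let m : N := (k : N)⁻¹ * n
    have hm : (m : G) ∈ normalizer (H : Set G) := by
      have hmS : m • S1 = S1 := by
        rw [Sylow.smul_subtype hS1 k] at hk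
        have := Sylow.subtype_injective hk
        rw [mul_smul, ← this]
        exact inv_smul_smul _ _
      refine mem_normalizer_iff.2 fun y => ?_
      have hmem := congrArg (fun T : Sylow 2 N => (T : Subgroup N)) hmS
      simp only [Sylow.coe_subgroup_smul] at hmem
      constructor
      · intro hy
        exact hmem.le ⟨(⟨y, hHNn hy⟩ : N), hy, rfl⟩
      · intro hy
        have hyN : y ∈ N := by
          have := mul_mem (mul_mem (inv_mem m.2) (hHNn hy)) m.2
          rwa [show (m : G)⁻¹ * ((m : G) * y * (m : G)⁻¹) * (m : G) = y by group] at this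
        obtain ⟨z, hz, e⟩ := hmem.ge (show (m * ⟨y, hyN⟩ * m⁻¹ : N) ∈ (S1 : Subgroup N) from hy)
        have : z = ⟨y, hyN⟩ := (MulAut.conj m).injective e
        rw [this] at hz
        exact hz
    have hkK : (k : N) ∈ HN ⊔ (normalizerMonoidHom Ω).ker := k.2
    rw [mem_sup_of_normal_right] at hkK
    obtain ⟨a, ha, b, hb, hab⟩ := hkK
    have haH : (a : G) ∈ normalizer (H : Set G) := le_normalizer (mem_subgroupOf.1 ha)
    refine ⟨⟨(a : G), haH⟩ * ⟨(m : G), hm⟩, ?_⟩
    show normalizerMonoidHom Ω (a * m) = normalizerMonoidHom Ω n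
    rw [show a * m = a * (k : N)⁻¹ * n by rw [mul_assoc], map_mul, map_mul, map_inv, ← hab, map_mul,
      MonoidHom.mem_ker.1 hb, mul_one, mul_inv_cancel, one_mul]
  have hf : Group.IsSolvable f.range := by
    let π : f.range →* normQuot X := (QuotientGroup.mk' _).comp (Subgroup.inclusion hfnorm)
    haveI := isSolvable_normQuot hΩ2 X htrX
    haveI := hfX
    haveI : Group.IsSolvable π.ker := Group.isSolvable_of_isSolvable_injective
      (f := (f.range.subtype.comp π.ker.subtype).codRestrict (X ⊓ f.range) fun x =>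
        ⟨mem_subgroupOf.1 ((QuotientGroup.eq_one_iff (N := X.subgroupOf (normalizer (X : Set (MulAut Ω))))
          (Subgroup.inclusion hfnorm x.1)).1 (MonoidHom.mem_ker.1 x.2)), x.1.2⟩)
      (fun a b e => Subtype.ext (Subtype.ext (congrArg Subtype.val e :)))
    exact Group.isSolvable_of_ker_le_range π.ker.subtype π (by rw [Subgroup.range_subtype])
  refine isSolvable_range_of_two (res H) f hf ?_
  -- below the kernel on `Ω`
  let Y0 := f.ker
  have key : Group.IsSolvable ((res H).comp Y0.subtype).range := by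
    refine isSolvable_range_of_two _ (r0.comp Y0.subtype) ?_ ?_
    · -- the action on `C0`
      rw [MonoidHom.range_comp, Subgroup.range_subtype]
      set M0 := normalizer (C0 : Set G) ⊓ N
      let cA : M0 →* MulAut C0 := (normalizerMonoidHom C0).comp (Subgroup.inclusion inf_le_left)
      have hinv : ∀ x : C0, x * x = 1 → x ∈ center C0 := fun x hx => mem_center_iff.2 fun g =>
        Subtype.ext (mem_centralizer_iff.1 g.2.2 (x : G) ⟨x.2.1, congrArg Subtype.val hx⟩).symm
      have hsyl : ∀ Q : Subgroup G, IsPGroup 2 Q → C0 ≤ Q → Q ≤ centralizer (Ω : Set G) → Q = C0 := by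
        intro Q hQ hC0Q hQC
        refine (eq_of_le_of_card_ge hC0Q ?_).symm
        obtain ⟨T, hT⟩ := hQ.exists_le_sylow
        obtain ⟨g, rfl⟩ := MulAction.exists_smul_eq G S T
        have hmem : ∀ y ∈ Q, g⁻¹ * y * g ∈ H := by
          intro y hy
          have h := hT hy
          rw [Sylow.coe_subgroup_smul] at h
          obtain ⟨s, hs, e⟩ := h
          have e2 : g⁻¹ * (MulAut.conj g s) * g = s := by simp [MulAut.conj_apply, mul_assoc]
          rw [← e]
          show g⁻¹ * (MulAut.conj g s) * g ∈ H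
          rw [e2]
          exact hs
        have hgΩ : Ω.map (MulAut.conj g⁻¹).toMonoidHom = Ω := by
          refine eq_of_le_of_card_ge ?_ (Subgroup.card_map_of_injective (MulAut.conj g⁻¹).injective).ge
          rintro _ ⟨y, hy, rfl⟩
          refine ⟨by simpa [MulAut.conj_apply] using hmem y (hC0Q (hΩC0 hy)), ?_⟩
          rw [← map_mul, hy.2, map_one]
        refine Nat.card_le_card_of_injective
          (fun y : Q => (⟨g⁻¹ * y * g, hmem y y.2, mem_centralizer_iff.2 fun z hz => ?_⟩ : C0)) ?_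
        · obtain ⟨w, hw, rfl⟩ := hgΩ.ge hz
          have := mem_centralizer_iff.1 (hQC y.2) w hw
          show g⁻¹ * w * g⁻¹⁻¹ * (g⁻¹ * y * g) = g⁻¹ * y * g * (g⁻¹ * w * g⁻¹⁻¹)
          rw [inv_inv, show g⁻¹ * w * g * (g⁻¹ * (y : G) * g) = g⁻¹ * (w * y) * g by group, this]
          group
        · intro a b e
          exact Subtype.ext (mul_left_cancel (mul_right_cancel (congrArg Subtype.val e)))
      refine isSolvable_of_trivial_on_omega hFT (S.isPGroup'.to_le inf_le_left) hinv (Y0.map r0) cA.range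
        ?_ ?_ ?_ ?_
      · rintro _ ⟨φ, hφ, rfl⟩ x hx
        refine Subtype.ext ?_
        have h := congrArg Subtype.val (DFunLike.congr_fun (MonoidHom.mem_ker.1 hφ)
          (⟨(x : G), x.2.1, congrArg Subtype.val hx.2⟩ : Ω))
        exact h
      · rintro _ ⟨φ, -, rfl⟩ _ ⟨n, rfl⟩
        obtain ⟨m, hm⟩ := hconjφ φ ⟨(n : G), n.2.2⟩
        have hm' : (m : G) = (φ : MulAut G) (n : G) := hm
        have hmC0 : (m : G) ∈ normalizer (C0 : Set G) := by
          refine mem_normalizer_iff.2 fun y => ?_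
          obtain ⟨z, rfl⟩ := (φ : MulAut G).surjective y
          rw [hm', ← map_inv, ← map_mul, ← map_mul]
          have hi : ∀ w, (φ : MulAut G) w ∈ C0 → w ∈ C0 := fun w hw => by
            have := hC0i φ _ hw
            rwa [MulAut.inv_apply_self] at this
          exact ⟨fun h => hC0 φ _ ((mem_normalizer_iff.1 n.2.1 z).1 (hi z h)),
            fun h => hC0 φ _ ((mem_normalizer_iff.1 n.2.1 z).2 (hi _ h))⟩
        refine ⟨⟨(m : G), hmC0, m.2⟩, MulEquiv.ext fun y => Subtype.ext ?_⟩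
        show (m : G) * (y : G) * (m : G)⁻¹ = (φ : MulAut G) ((n : G) * ((φ : MulAut G)⁻¹ y) * (n : G)⁻¹)
        rw [map_mul, map_mul, MulAut.apply_inv_self, map_inv, hm']
      · intro v hv w hw hv1 hw1
        obtain ⟨x, ⟨n, rfl⟩, e⟩ := htrX (⟨(v : G), v.2.1, congrArg Subtype.val hv.2⟩ : Ω)
          ⟨(w : G), w.2.1, congrArg Subtype.val hw.2⟩ (fun h => hv1 (Subtype.ext (congrArg Subtype.val h :)))
          (fun h => hw1 (Subtype.ext (congrArg Subtype.val h :)))
        -- Frattini inside the centraliser of `Ω`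
        let CΩ : Subgroup G := centralizer (Ω : Set G)
        let C0' : Subgroup CΩ := C0.subgroupOf CΩ
        have hp : IsPGroup 2 C0' :=
          (S.isPGroup'.to_le inf_le_left).of_equiv (subgroupOfEquivOfLe (inf_le_right : C0 ≤ CΩ)).symm
        obtain ⟨P0, hP0⟩ := hp.exists_le_sylow
        have hP0eq : (P0 : Subgroup CΩ).map CΩ.subtype = C0 :=
          hsyl _ (P0.isPGroup'.map _) (fun y hy => ⟨⟨y, hy.2⟩, hP0 hy, rfl⟩) (map_subtype_le _)
        have hnC : C0.map (MulAut.conj (n : G)).toMonoidHom ≤ CΩ := by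
          rintro _ ⟨y, hy, rfl⟩
          refine mem_centralizer_iff.2 fun z hz => ?_
          have hz' : (n : G)⁻¹ * z * n ∈ Ω := by
            have := (mem_normalizer_iff.1 (inv_mem n.2) z).1 hz
            rwa [inv_inv] at this
          have := mem_centralizer_iff.1 hy.2 _ hz'
          show z * ((n : G) * y * (n : G)⁻¹) = (n : G) * y * (n : G)⁻¹ * z
          rw [show z * ((n : G) * y * (n : G)⁻¹) = (n : G) * ((n : G)⁻¹ * z * n * y) * (n : G)⁻¹ by group, this]
          group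
        obtain ⟨P1, hP1⟩ := (((S.isPGroup'.to_le (inf_le_left : C0 ≤ H)).map
          (MulAut.conj (n : G)).toMonoidHom).of_equiv (subgroupOfEquivOfLe hnC).symm).exists_le_sylow
        obtain ⟨c, hcP⟩ := MulAction.exists_smul_eq CΩ P1 P0
        have hle : ∀ y ∈ C0, (c : G) * n * y * ((c : G) * n)⁻¹ ∈ C0 := by
          intro y hy
          rw [← hP0eq, ← hcP]
          refine ⟨c * ⟨(n : G) * y * (n : G)⁻¹, hnC ⟨y, hy, rfl⟩⟩ * c⁻¹, ?_, ?_⟩
          · show _ ∈ ((c • P1 : Sylow 2 CΩ) : Subgroup CΩ)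
            rw [Sylow.coe_subgroup_smul]
            exact ⟨⟨_, hnC ⟨y, hy, rfl⟩⟩, hP1 ⟨y, hy, rfl⟩, rfl⟩
          · show (c : G) * ((n : G) * y * (n : G)⁻¹) * (c : G)⁻¹ = _
            group
        have hN0 : (c : G) * n ∈ M0 := by
          refine ⟨?_, mul_mem (centralizer_le_normalizer _ c.2) n.2⟩
          have hmap : C0.map (MulAut.conj ((c : G) * n)).toMonoidHom = C0 :=
            eq_of_le_of_card_ge (by rintro _ ⟨y, hy, rfl⟩; exact hle y hy)
              (Subgroup.card_map_of_injective (MulAut.conj ((c : G) * n)).injective).ge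
          refine mem_normalizer_iff.2 fun y => ⟨hle y, fun hy => ?_⟩
          obtain ⟨z, hz, e'⟩ := hmap.ge hy
          exact ((MulAut.conj ((c : G) * n)).injective e') ▸ hz
        refine ⟨cA ⟨_, hN0⟩, ⟨_, rfl⟩, Subtype.ext ?_⟩
        show (c : G) * n * (v : G) * ((c : G) * n)⁻¹ = (w : G)
        have e' : (n : G) * v * (n : G)⁻¹ = w := congrArg Subtype.val e
        rw [show (c : G) * n * (v : G) * ((c : G) * n)⁻¹ = (c : G) * ((n : G) * v * (n : G)⁻¹) * (c : G)⁻¹ by
          group, e', ← mem_centralizer_iff.1 c.2 (w : G) ⟨w.2.1, congrArg Subtype.val hw.2⟩,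
          mul_inv_cancel_right]
      · intro V _ F hF
        let M1 : Subgroup M0 := (centralizer (Ω : Set G)).subgroupOf M0
        let h1 : M1 →* MulAut V := F.comp (cA.comp M1.subtype)
        have heq : (cA.range ⊓ (charRestr (omegaC C0) omegaC_char).ker).map F = h1.range := by
          ext g
          constructor
          · rintro ⟨_, ⟨⟨n, rfl⟩, hk⟩, rfl⟩
            refine ⟨⟨n, mem_subgroupOf.2 (mem_centralizer_iff.2 fun z hz => ?_)⟩, rfl⟩
            have hzO : (⟨z, hΩC0 hz⟩ : C0) ∈ omegaC C0 :=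
              ⟨hinv _ (Subtype.ext hz.2), Subtype.ext hz.2⟩
            have := congrArg (fun t : omegaC C0 => ((t : C0) : G))
              (DFunLike.congr_fun (MonoidHom.mem_ker.1 hk) ⟨_, hzO⟩)
            have h' : (n : G) * z * (n : G)⁻¹ = z := this
            exact (mul_inv_eq_iff_eq_mul.1 h').symm
          · rintro ⟨n, rfl⟩
            refine ⟨cA n, ⟨⟨n, rfl⟩, MonoidHom.mem_ker.2 (MulEquiv.ext fun z => Subtype.ext (Subtype.ext ?_))⟩, rfl⟩
            show (n.1 : G) * ((z : C0) : G) * (n.1 : G)⁻¹ = ((z : C0) : G)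
            rw [← mem_centralizer_iff.1 (mem_subgroupOf.1 n.2) ((z : C0) : G)
              ⟨(z : C0).2.1, congrArg Subtype.val z.2.2⟩, mul_inv_cancel_right]
        rw [heq, ← Nat.not_even_iff_odd, even_iff_two_dvd]
        intro h2
        have hC0M : C0 ≤ M0 := fun y hy => ⟨le_normalizer hy, centralizer_le_normalizer _ hy.2⟩
        let C0'' : Subgroup M1 := (C0.subgroupOf M0).subgroupOf M1
        have hk : C0'' ≤ h1.ker := fun y hy => by
          rw [MonoidHom.mem_ker]
          show F (cA y.1) = 1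
          rw [show cA y.1 = MulAut.conj (⟨_, hy⟩ : C0) from MulEquiv.ext fun z => Subtype.ext rfl, hF]
        have hdvd : 2 ∣ C0''.index := h2.trans (by rw [← Subgroup.index_ker]; exact index_dvd_of_le hk)
        have hp : IsPGroup 2 C0'' :=
          ((S.isPGroup'.to_le (inf_le_left : C0 ≤ H)).of_equiv (subgroupOfEquivOfLe hC0M).symm).comap_subtype
        obtain ⟨Q, hQ⟩ := hp.exists_le_sylow
        have hQeq : ((Q : Subgroup M1).map M1.subtype).map M0.subtype = C0 := by
          refine hsyl _ ((Q.isPGroup'.map _).map _) (fun y hy => ?_) ?_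
          · exact ⟨⟨y, hC0M hy⟩, ⟨⟨⟨y, hC0M hy⟩, mem_subgroupOf.2 hy.2⟩, hQ hy, rfl⟩, rfl⟩
          · rintro _ ⟨_, ⟨y, -, rfl⟩, rfl⟩
            exact mem_subgroupOf.1 y.2
        have hQC : (Q : Subgroup M1) = C0'' := by
          refine le_antisymm (fun y hy => ?_) hQ
          show ((y : M0) : G) ∈ C0
          rw [← hQeq]
          exact ⟨_, ⟨y, hy, rfl⟩, rfl⟩
        exact Q.not_dvd_index (hQC ▸ hdvd)
    · -- automorphisms of `H` trivial on `C0` commute
      refine Group.isSolvable_of_comm fun a b => Subtype.ext ?_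
      obtain ⟨φ, hφ, ea⟩ := a.2
      obtain ⟨ψ, hψ, eb⟩ := b.2
      rw [Subgroup.coe_mul, Subgroup.coe_mul, ← ea, ← eb]
      refine MulEquiv.ext fun u => Subtype.ext ?_
      show (φ.1 : MulAut G) ((ψ.1 : MulAut G) (u : G)) = (ψ.1 : MulAut G) ((φ.1 : MulAut G) (u : G))
      have hfix : ∀ χ : Y0, χ ∈ (r0.comp Y0.subtype).ker → ∀ x ∈ C0, (χ.1 : MulAut G) x = x :=
        fun χ hχ x hx => congrArg Subtype.val (DFunLike.congr_fun (MonoidHom.mem_ker.1 hχ) (⟨x, hx⟩ : C0))
      have hΩnorm : H ≤ normalizer (Ω : Set G) := le_normalizer.trans hHN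
      have hconjC : ∀ x ∈ C0, ∀ v ∈ H, v * x * v⁻¹ ∈ C0 := by
        intro x hx v hv
        refine ⟨H.mul_mem (H.mul_mem hv hx.1) (H.inv_mem hv), mem_centralizer_iff.2 fun z hz => ?_⟩
        have hz' : v⁻¹ * z * v ∈ Ω := by
          have := (mem_normalizer_iff.1 (inv_mem (hΩnorm hv)) z).1 hz
          rwa [inv_inv] at this
        have := mem_centralizer_iff.1 hx.2 _ hz'
        rw [show z * (v * x * v⁻¹) = v * (v⁻¹ * z * v * x) * v⁻¹ by group, this]
        group
      have hz : ∀ χ : Y0, χ ∈ (r0.comp Y0.subtype).ker →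
          (u : G)⁻¹ * (χ.1 : MulAut G) u ∈ C0 ∧ ∀ x ∈ C0, Commute ((u : G)⁻¹ * (χ.1 : MulAut G) u) x := by
        intro χ hχ
        have hcomm : ∀ x ∈ C0, Commute ((u : G)⁻¹ * (χ.1 : MulAut G) u) x := by
          intro x hx
          have h1 := hfix χ hχ _ (hconjC x hx u u.2)
          rw [map_mul, map_mul, map_inv, hfix χ hχ x hx] at h1
          show (u : G)⁻¹ * (χ.1 : MulAut G) u * x = x * ((u : G)⁻¹ * (χ.1 : MulAut G) u)
          rw [mul_assoc, show (χ.1 : MulAut G) u * x = u * x * (u : G)⁻¹ * (χ.1 : MulAut G) u by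
            rw [← h1]; group]
          group
        refine ⟨⟨H.mul_mem (H.inv_mem u.2) ((χ.1.2 _).2 u.2), mem_centralizer_iff.2 fun z hz => ?_⟩, hcomm⟩
        exact (hcomm z (hΩC0 hz)).eq.symm
      obtain ⟨hφm, hφc⟩ := hz φ hφ
      obtain ⟨hψm, hψc⟩ := hz ψ hψ
      calc (φ.1 : MulAut G) ((ψ.1 : MulAut G) u)
          = (φ.1 : MulAut G) ((u : G) * ((u : G)⁻¹ * (ψ.1 : MulAut G) u)) := by rw [mul_inv_cancel_left]
        _ = (u : G) * (((u : G)⁻¹ * (φ.1 : MulAut G) u) * ((u : G)⁻¹ * (ψ.1 : MulAut G) u)) := by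
          rw [map_mul, hfix φ hφ _ hψm]; group
        _ = (u : G) * (((u : G)⁻¹ * (ψ.1 : MulAut G) u) * ((u : G)⁻¹ * (φ.1 : MulAut G) u)) := by
          rw [(hφc _ hψm).eq]
        _ = (ψ.1 : MulAut G) ((u : G) * ((u : G)⁻¹ * (φ.1 : MulAut G) u)) := by
          rw [map_mul, hfix ψ hψ _ hφm]; group
        _ = (ψ.1 : MulAut G) ((φ.1 : MulAut G) u) := by rw [mul_inv_cancel_left]
  rwa [MonoidHom.range_comp, Subgroup.range_subtype] at key

end CfsgLib.OutSylowC
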