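import Cfsg.Agent.OutSylowC.Basic
import Cfsg.Agent.FTRows.PiSep
import Cfsg.Agent.FGSA.QuadMap
import Mathlib.GroupTheory.Transfer
import Mathlib.NumberTheory.Wilson

/-!
Isometries of an anisotropic quadratic map whose values are permuted transitively by a normalised
group of similitudes with only odd order isometries form a soluble group.
-/

set_option autoImplicit false
set_option linter.unusedSectionVars false
set_option linter.style.haveILetI false

universe u v

namespace CfsgLib.OutSylowC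

open Subgroup

variable {V : Type u} [CommGroup V] [Finite V] {W : Type v} [CommGroup W] [Finite W]

/-- An anisotropic quadratic map, onto, with its polar form. -/
structure IsQuadForm (q : V → W) (B : V → V → W) : Prop where
  exp : ∀ v : V, v * v = 1
  expW : ∀ w : W, w * w = 1
  map_mul : ∀ a b, q (a * b) = q a * q b * B a b
  bil_left : ∀ a b c, B (a * b) c = B a c * B b c
  bil_right : ∀ a b c, B a (b * c) = B a b * B a c
  aniso : ∀ v, q v = 1 → v = 1
  surj : ∀ w, ∃ v, q v = w

theorem IsQuadForm.map_one {q : V → W} {B : V → V → W} (h : IsQuadForm q B) : q 1 = 1 := by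
  have h1 := h.bil_left 1 1 1
  rw [mul_one] at h1
  have hB : B 1 1 = 1 := mul_eq_left.1 h1.symm
  have h2 := h.map_mul 1 1
  rw [mul_one, hB, mul_one, h.expW] at h2
  exact h2

theorem IsQuadForm.isQuad {q : V → W} {B : V → V → W} (h : IsQuadForm q B) :
    CfsgLib.QuadMap.IsQuad q := by
  intro a b x
  rw [h.map_one, h.map_mul a (b * x), h.map_mul b x, h.map_mul a x, h.map_mul a b, h.bil_right]
  simp only [mul_one]
  have e : q a * (q b * q x * B b x) * (B a b * B a x) * (q a * q x * B a x) * (q b * q x * B b x) * q x =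
      q a * q b * B a b * q a * q b * ((q x * q x) * (q x * q x) * (B b x * B b x) * (B a x * B a x)) := by
    simp only [mul_comm, mul_left_comm]
  rw [e]
  simp only [h.expW, mul_one]

/-- The isometries of `q`. -/
def isometries (q : V → W) : Subgroup (MulAut V) where
  carrier := {g | ∀ v, q (g v) = q v}
  one_mem' := fun _ => rfl
  mul_mem' := fun {a b} ha hb v => (ha (b v)).trans (hb v)
  inv_mem' := fun {a} ha v => by rw [← ha (a⁻¹ v), MulAut.apply_inv_self]

/-- `v ↦ g v * v`. -/
def moveHom (g : MulAut V) : V →* V where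
  toFun v := g v * v
  map_one' := by simp
  map_mul' a b := by rw [map_mul, mul_mul_mul_comm]

theorem moveHom_ker (h2 : ∀ v : V, v * v = 1) (g : MulAut V) : (moveHom g).ker = fix1 g := by
  ext v
  rw [MonoidHom.mem_ker, mem_fix1]
  show g v * v = 1 ↔ _
  constructor
  · intro h
    calc g v = g v * (v * v) := by rw [h2, mul_one]
      _ = v := by rw [← mul_assoc, h, one_mul]
  · intro h
    rw [h, h2]

/-- Two-subgroups of isometries have fixed points of every value, if all fibres are odd. -/
theorem exists_fixed_value {q : V → W} {P : Subgroup (MulAut V)} (hP : IsPGroup 2 P)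
    (hPO : P ≤ isometries q) {w : W} (hodd : Odd (Nat.card {v : V // q v = w})) :
    ∃ v ∈ fixOf (P : Set (MulAut V)), q v = w := by
  haveI : Fact (Nat.Prime 2) := ⟨Nat.prime_two⟩
  letI : MulAction P {v : V // q v = w} :=
    { smul := fun p x => ⟨(p : MulAut V) x.1, (hPO p.2 x.1).trans x.2⟩
      one_smul := fun _ => Subtype.ext rfl
      mul_smul := fun _ _ _ => Subtype.ext rfl }
  obtain ⟨x, hx⟩ := hP.nonempty_fixed_point_of_prime_not_dvd_card {v : V // q v = w}
    (fun h => Nat.not_odd_iff_even.2 (even_iff_two_dvd.2 h) hodd)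
  exact ⟨x.1, fun p hp => congrArg Subtype.val (hx ⟨p, hp⟩), x.2⟩

theorem isSolvable_isometries {q : V → W} {B : V → V → W} (hq : IsQuadForm q B)
    (hFT : CfsgLib.FTRows.OddSolvable.{u}) (L A : Subgroup (MulAut V)) (hLO : L ≤ isometries q)
    (hLA : ∀ l ∈ L, ∀ a ∈ A, l * a * l⁻¹ ∈ A)
    (hfib : ∀ a ∈ A, ∀ v v', q v = q v' → q (a v) = q (a v'))
    (htr : ∀ v w : V, v ≠ 1 → w ≠ 1 → ∃ a ∈ A, q (a v) = q w)
    (hodd : Odd (Nat.card (A ⊓ isometries q : Subgroup (MulAut V)))) :
    Group.IsSolvable L := by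
  classical
  haveI : Fact (Nat.Prime 2) := ⟨Nat.prime_two⟩
  have hOA : ∀ a ∈ A, ∀ o ∈ isometries q, a⁻¹ * o * a ∈ isometries q := by
    intro a ha o ho v
    rw [MulAut.mul_apply, MulAut.mul_apply, hfib a⁻¹ (inv_mem ha) _ _ (ho (a v)), MulAut.inv_apply_self]
  haveI : Fintype W := Fintype.ofFinite W
  -- fibres
  let m : W → ℕ := fun w => Nat.card {v : V // q v = w}
  have hm1 : m 1 = 1 := Nat.card_eq_one_iff_unique.2
    ⟨⟨fun a b => Subtype.ext ((hq.aniso _ a.2).trans (hq.aniso _ b.2).symm)⟩, ⟨⟨1, hq.map_one⟩⟩⟩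
  have hmeq : ∀ w w', w ≠ 1 → w' ≠ 1 → m w ≤ m w' := by
    intro w w' hw hw'
    obtain ⟨v, hv⟩ := hq.surj w
    obtain ⟨v', hv'⟩ := hq.surj w'
    obtain ⟨a, ha, he⟩ := htr v v' (fun h => hw (by rw [← hv, h, hq.map_one]))
      (fun h => hw' (by rw [← hv', h, hq.map_one]))
    refine Nat.card_le_card_of_injective (fun x => ⟨a x.1,
      (hfib a ha _ _ (x.2.trans hv.symm)).trans (he.trans hv')⟩) fun x y hxy => ?_
    exact Subtype.ext (a.injective (congrArg Subtype.val hxy))
  by_cases hWt : ∀ w : W, w = 1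
  · haveI : Subsingleton V := ⟨fun a b => (hq.aniso a (hWt _)).trans (hq.aniso b (hWt _)).symm⟩
    haveI : Subsingleton L := ⟨fun a b => Subtype.ext (MulEquiv.ext fun x => Subsingleton.elim _ _)⟩
    exact Group.isSolvable_of_comm fun a b => Subsingleton.elim _ _
  push Not at hWt
  obtain ⟨w0, hw0⟩ := hWt
  have hsum : Nat.card V = 1 + (Nat.card W - 1) * m w0 := by
    rw [← Nat.card_congr (Equiv.sigmaFiberEquiv q), Nat.card_sigma,
      ← Finset.add_sum_erase Finset.univ (fun w => Nat.card {v : V // q v = w}) (Finset.mem_univ (1 : W))]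
    show m 1 + _ = _
    rw [hm1, Finset.sum_const_nat (m := m w0)]
    · rw [Finset.card_erase_of_mem (Finset.mem_univ _), Finset.card_univ, Nat.card_eq_fintype_card]
    · intro w hw
      have h1 := Finset.ne_of_mem_erase hw
      exact le_antisymm (hmeq w w0 h1 hw0) (hmeq w0 w hw0 h1)
  -- the orders
  obtain ⟨d, hd⟩ := CfsgLib.QuadMap.exists_card_eq hq.exp
  obtain ⟨n, hn⟩ := CfsgLib.QuadMap.exists_card_eq hq.expW
  have hn0 : 1 ≤ n := by
    by_contra h
    haveI := (Nat.card_eq_one_iff_unique.1 (by rw [hn, show n = 0 by omega, pow_zero] : Nat.card W = 1)).1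
    exact hw0 (Subsingleton.elim _ _)
  have hdn : n ≤ d := by
    have h := Nat.card_le_card_of_surjective q hq.surj
    rw [hd, hn] at h
    exact (Nat.pow_le_pow_iff_right (by norm_num)).1 h
  have hd2n : d ≤ 2 * n := by
    have h := CfsgLib.QuadMap.card_le q hq.exp hq.expW hq.isQuad hq.map_one hq.aniso
    rw [hd, hn, ← pow_mul] at h
    have := (Nat.pow_le_pow_iff_right (by norm_num)).1 h
    omega
  have hnd : n ∣ d := by
    have h1 : 2 ^ n - 1 ∣ 2 ^ d - 1 := ⟨m w0, by rw [← hd, hsum, hn]; omega⟩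
    have h2 := Nat.gcd_eq_left h1
    rw [Nat.pow_sub_one_gcd_pow_sub_one] at h2
    have h3 : 2 ^ (Nat.gcd n d) = 2 ^ n := by
      have := Nat.one_le_two_pow (n := n)
      have := Nat.one_le_two_pow (n := Nat.gcd n d)
      omega
    rw [← Nat.pow_right_injective le_rfl h3]
    exact Nat.gcd_dvd_right n d
  rcases (show d = n ∨ d = 2 * n by
    obtain ⟨k, rfl⟩ := hnd
    rcases k with _ | _ | _ | k
    · omega
    · left; omega
    · right; ring
    · exfalso; nlinarith) with rfl | rfl
  · -- `q` is one to one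
    haveI := Fintype.ofFinite V
    have hinj : Function.Injective q :=
      ((Fintype.bijective_iff_surjective_and_card q).2
        ⟨hq.surj, by rw [← Nat.card_eq_fintype_card, ← Nat.card_eq_fintype_card, hd, hn]⟩).1
    haveI : Subsingleton L := ⟨fun a b => Subtype.ext (MulEquiv.ext fun x =>
      hinj ((hLO a.2 x).trans (hLO b.2 x).symm))⟩
    exact Group.isSolvable_of_comm fun a b => Subsingleton.elim _ _
  have hmodd : ∀ w : W, Odd (m w) := by
    intro w
    by_cases hw : w = 1
    · rw [hw, hm1]; exact odd_one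
    rw [show m w = m w0 from le_antisymm (hmeq w w0 hw hw0) (hmeq w0 w hw0 hw)]
    refine Nat.not_even_iff_odd.1 fun he => ?_
    have h1 : Even (Nat.card V) := by
      rw [hd, Nat.even_pow]; exact ⟨even_two, by omega⟩
    rw [hsum, Nat.add_comm, Nat.even_add_one] at h1
    exact h1 (he.mul_left _)
  -- covering by the centraliser of a two-group
  have hcover : ∀ P : Subgroup (MulAut V), IsPGroup 2 P → P ≤ L → ∀ a ∈ A,
      ∃ b ∈ A, (∀ p ∈ P, Commute p b) ∧ ∀ v, q (b v) = q (a v) := by
    intro P hP hPL a ha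
    let X := {b : MulAut V // b ∈ A ∧ a⁻¹ * b ∈ isometries q}
    let e : X ≃ (A ⊓ isometries q : Subgroup (MulAut V)) :=
      { toFun := fun b => ⟨a⁻¹ * b.1, A.mul_mem (A.inv_mem ha) b.2.1, b.2.2⟩
        invFun := fun o => ⟨a * o.1, A.mul_mem ha o.2.1, by rw [inv_mul_cancel_left]; exact o.2.2⟩
        left_inv := fun b => Subtype.ext (mul_inv_cancel_left _ _)
        right_inv := fun o => Subtype.ext (inv_mul_cancel_left _ _) }
    letI : MulAction P X :=
      { smul := fun p b => ⟨(p : MulAut V) * b.1 * (p : MulAut V)⁻¹, hLA _ (hPL p.2) _ b.2.1, by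
          rw [show a⁻¹ * ((p : MulAut V) * b.1 * (p : MulAut V)⁻¹) =
            (a⁻¹ * p * a) * (a⁻¹ * b.1) * (p : MulAut V)⁻¹ by group]
          exact (isometries q).mul_mem ((isometries q).mul_mem (hOA a ha _ (hLO (hPL p.2))) b.2.2)
            ((isometries q).inv_mem (hLO (hPL p.2)))⟩
        one_smul := fun b => Subtype.ext (by
          show (1 : MulAut V) * b.1 * (1 : MulAut V)⁻¹ = b.1
          group)
        mul_smul := fun p p' b => Subtype.ext (by
          show ((p * p' : P) : MulAut V) * b.1 * ((p * p' : P) : MulAut V)⁻¹ =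
            (p : MulAut V) * ((p' : MulAut V) * b.1 * (p' : MulAut V)⁻¹) * (p : MulAut V)⁻¹
          push_cast; group) }
    obtain ⟨b, hb⟩ := hP.nonempty_fixed_point_of_prime_not_dvd_card X (fun h => by
      rw [Nat.card_congr e] at h
      exact Nat.not_odd_iff_even.2 (even_iff_two_dvd.2 h) hodd)
    refine ⟨b.1, b.2.1, fun p hp => mul_inv_eq_iff_eq_mul.1 (congrArg Subtype.val (hb ⟨p, hp⟩)),
      fun v => ?_⟩
    rw [← hfib a ha _ _ (b.2.2 v), MulAut.mul_apply, MulAut.apply_inv_self]
  -- fixed subgroups of two-subgroups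
  have hfix_ge : ∀ P : Subgroup (MulAut V), IsPGroup 2 P → P ≤ L →
      Nat.card W ≤ Nat.card (fixOf (P : Set (MulAut V))) := by
    intro P hP hPL
    refine Nat.card_le_card_of_surjective (fun v => q v.1) fun w => ?_
    obtain ⟨v, hv, he⟩ := exists_fixed_value hP (hPL.trans hLO) (hmodd w)
    exact ⟨⟨v, hv⟩, he⟩
  have hinv : ∀ s ∈ L, s * s = 1 → s ≠ 1 →
      Nat.card (fix1 s) = Nat.card W ∧ (moveHom s).range = fix1 s ∧
        Set.InjOn q (fix1 s : Set V) ∧ ∀ w, ∃ v ∈ fix1 s, q v = w := by
    intro s hs hs2 hs1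
    have hP : IsPGroup 2 (zpowers s) := IsPGroup.of_card (n := 1) (by
      rw [Nat.card_zpowers, orderOf_eq_prime (by rw [pow_two]; exact hs2) hs1, pow_one])
    have hsurj : ∀ w, ∃ v ∈ fix1 s, q v = w := by
      intro w
      obtain ⟨v, hv, he⟩ := exists_fixed_value hP (zpowers_le.2 (hLO hs)) (hmodd w)
      exact ⟨v, fixOf_zpowers s ▸ hv, he⟩
    have h1 : Nat.card W ≤ Nat.card (fix1 s) := fixOf_zpowers s ▸ hfix_ge _ hP (zpowers_le.2 hs)
    have hle : (moveHom s).range ≤ fix1 s := by
      rintro _ ⟨v, rfl⟩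
      refine mem_fix1.2 ?_
      show s (s v * v) = s v * v
      rw [_root_.map_mul, ← MulAut.mul_apply, hs2, MulAut.one_apply, mul_comm]
    have h2 : Nat.card W ≤ Nat.card (moveHom s).range := by
      obtain ⟨v, hv⟩ : ∃ v, s v * v ≠ 1 := by
        by_contra h
        push Not at h
        exact hs1 (MulEquiv.ext fun v => mem_fix1.1 (moveHom_ker hq.exp s ▸ MonoidHom.mem_ker.2 (h v)))
      refine Nat.card_le_card_of_surjective (fun x => q x.1) fun w => ?_
      by_cases hw : w = 1
      · exact ⟨1, by rw [hw]; exact hq.map_one⟩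
      obtain ⟨v', hv'⟩ := hq.surj w
      obtain ⟨a, ha, he⟩ := htr _ v' hv (fun h => hw (by rw [← hv', h, hq.map_one]))
      obtain ⟨b, -, hbc, hbq⟩ := hcover _ hP (zpowers_le.2 hs) a ha
      refine ⟨⟨b (s v * v), b v, ?_⟩, ?_⟩
      · show s (b v) * b v = b (s v * v)
        rw [_root_.map_mul, ← MulAut.mul_apply, (hbc s (mem_zpowers s)).eq, MulAut.mul_apply]
      · show q (b (s v * v)) = w
        rw [hbq, he, hv']
    have h3 : Nat.card (fix1 s) * Nat.card (moveHom s).range = Nat.card W * Nat.card W := by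
      rw [← index_ker, moveHom_ker hq.exp, card_mul_index, hd, hn]
      ring
    have hW : Nat.card (fix1 s) = Nat.card W := by
      refine le_antisymm ?_ h1
      by_contra h
      push Not at h
      have hW0 : 0 < Nat.card W := Nat.card_pos
      nlinarith
    refine ⟨hW, eq_of_le_of_card_ge hle (hW ▸ h2), ?_, hsurj⟩
    haveI := Fintype.ofFinite (fix1 s)
    have hb := (Fintype.bijective_iff_surjective_and_card (fun x : fix1 s => q x.1)).2
      ⟨fun w => let ⟨v, hv, he⟩ := hsurj w; ⟨⟨v, hv⟩, he⟩,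
        by rw [← Nat.card_eq_fintype_card, ← Nat.card_eq_fintype_card, hW]⟩
    exact fun x hx y hy e => congrArg Subtype.val (hb.1 (a₁ := ⟨x, hx⟩) (a₂ := ⟨y, hy⟩) e)
  -- a Sylow two-subgroup
  let P : Sylow 2 L := default
  let Q : Subgroup (MulAut V) := (P : Subgroup L).map L.subtype
  have hQL : Q ≤ L := map_subtype_le _
  have hQ : IsPGroup 2 Q := P.isPGroup'.map _
  by_cases hQ1 : Q = ⊥
  · refine hFT L ?_
    rw [← Nat.not_even_iff_odd, even_iff_two_dvd]
    intro h2
    refine P.ne_bot_of_dvd_card h2 ?_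
    exact (map_eq_bot_iff_of_injective _ L.subtype_injective).1 hQ1
  have hgetinv : ∀ p ∈ Q, p ≠ 1 → ∃ k : ℕ, p ^ k * p ^ k = 1 ∧ p ^ k ≠ 1 := by
    intro p hp hp1
    obtain ⟨k, hk⟩ := IsPGroup.iff_orderOf.1 hQ ⟨p, hp⟩
    rw [Subgroup.orderOf_mk] at hk
    rcases k with _ | k
    · exact absurd (orderOf_eq_one_iff.1 (by simpa using hk)) hp1
    refine ⟨2 ^ k, ?_, pow_ne_one_of_lt_orderOf (by positivity) ?_⟩
    · rw [← pow_add, ← two_mul, ← pow_succ', ← hk, pow_orderOf_eq_one]
    · rw [hk]; exact Nat.pow_lt_pow_right one_lt_two (Nat.lt_succ_self k)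
  set F := fixOf (Q : Set (MulAut V)) with hF
  have hFeq : ∀ p ∈ Q, p * p = 1 → p ≠ 1 → fix1 p = F := fun p hp h2 h1 =>
    (eq_of_le_of_card_ge (H := F) (fun v hv => mem_fix1.2 (hv p hp))
      ((hinv p (hQL hp) h2 h1).1 ▸ hfix_ge Q hQ hQL)).symm
  have hexp : ∀ p ∈ Q, p * p = 1 := by
    intro p0 hp0
    by_contra hp01
    obtain ⟨k, hk2, hk1⟩ := hgetinv (p0 * p0) (mul_mem hp0 hp0) hp01
    set p := p0 ^ k with hp'
    have hpk : p * p = (p0 * p0) ^ k := ((Commute.refl p0).mul_pow k).symm
    rw [← hpk] at hk2 hk1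
    have hp : p ∈ Q := pow_mem hp0 k
    set s := p * p with hs
    obtain ⟨hsW, hsr, -, -⟩ := hinv s (hQL (mul_mem hp hp)) hk2 hk1
    have hsF := hFeq s (mul_mem hp hp) hk2 hk1
    have hfp : fix1 p = F := le_antisymm (fun v hv => by
        rw [← hsF]; refine mem_fix1.2 ?_
        rw [hs, MulAut.mul_apply, mem_fix1.1 hv, mem_fix1.1 hv]) (fun v hv => mem_fix1.2 (hv p hp))
    have hff : ∀ v, moveHom p (moveHom p v) = moveHom s v := by
      intro v
      show p (p v * v) * (p v * v) = p (p v) * v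
      rw [_root_.map_mul, mul_mul_mul_comm, mul_assoc, ← mul_assoc (p v) (p v) v, hq.exp, one_mul]
    have hmap : (moveHom p).range.map (moveHom p) = F := by
      rw [← hsF, ← hsr, MonoidHom.map_range]
      exact congrArg MonoidHom.range (MonoidHom.ext hff)
    have hcI : Nat.card (moveHom p).range = Nat.card W := by
      have h3 : Nat.card (fix1 p) * Nat.card (moveHom p).range = Nat.card W * Nat.card W := by
        rw [← index_ker, moveHom_ker hq.exp, card_mul_index, hd, hn]
        ring
      rw [hfp, ← hsF, hsW] at h3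
      exact Nat.eq_of_mul_eq_mul_left Nat.card_pos h3
    -- `moveHom p` is one to one on its range, which contains its kernel
    have hinj : ∀ x ∈ (moveHom p).range, moveHom p x = 1 → x = 1 := by
      let φ : (moveHom p).range →* ((moveHom p).range.map (moveHom p) : Subgroup V) :=
        (moveHom p).subgroupMap _
      have hbij : Function.Bijective φ := by
        haveI := Fintype.ofFinite (moveHom p).range
        haveI := Fintype.ofFinite ((moveHom p).range.map (moveHom p) : Subgroup V)
        refine (Fintype.bijective_iff_surjective_and_card φ).2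
          ⟨MonoidHom.subgroupMap_surjective _ _, ?_⟩
        rw [← Nat.card_eq_fintype_card, ← Nat.card_eq_fintype_card, hmap, hcI, ← hsF, hsW]
      intro x hx hx1
      exact congrArg Subtype.val (hbij.1 (a₁ := ⟨x, hx⟩) (a₂ := 1) (Subtype.ext (by
        rw [_root_.map_one]; exact hx1)))
    have hFbot : F = ⊥ := by
      refine (eq_bot_iff_forall _).2 fun x hx => ?_
      refine hinj x ?_ (MonoidHom.mem_ker.1 (by rw [moveHom_ker hq.exp, hfp]; exact hx))
      rw [← hmap] at hx
      obtain ⟨y, -, rfl⟩ := hx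
      exact ⟨y, rfl⟩
    rw [hFbot] at hsF
    rw [hsF, card_bot, hn] at hsW
    have : 1 < 2 ^ n := Nat.one_lt_two_pow (by omega)
    omega
  obtain ⟨z, hz, hz1⟩ := (bot_or_exists_ne_one Q).resolve_left hQ1
  obtain ⟨-, -, hzinj, hzsurj⟩ := hinv z (hQL hz) (hexp z hz) hz1
  rw [hFeq z hz (hexp z hz) hz1] at hzinj hzsurj
  have hoddone : ∀ x ∈ L, (∀ v ∈ F, x v ∈ F) → Odd (orderOf x) → x = 1 := by
    intro x hx hxF hxo
    refine MulEquiv.ext fun w => ?_
    obtain ⟨v, hv, hvq⟩ := hzsurj (q (w * x w))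
    have hxv : x v = v := hzinj (hxF v hv) hv (hLO hx v)
    have hB : B v (x w) = B v w := by
      have h := hLO hx (v * w)
      rw [_root_.map_mul, hxv, hq.map_mul, hq.map_mul, hLO hx w] at h
      exact mul_left_cancel h
    have hvw : v * (w * x w) = 1 := hq.aniso _ (by
      rw [hq.map_mul, hvq, hq.expW, one_mul, hq.bil_right, hB, hq.expW])
    have hxw : x w = w * v := by
      calc x w = v * v * (w * w) * x w := by rw [hq.exp, hq.exp, one_mul, one_mul]
        _ = v * w * (v * (w * x w)) := by simp only [mul_assoc, mul_left_comm]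
        _ = w * v := by rw [hvw, mul_one, mul_comm]
    have hit : ∀ i : ℕ, (x ^ i) w = w * v ^ i := by
      intro i
      induction i with
      | zero => simp
      | succ i ih =>
        rw [pow_succ', MulAut.mul_apply, ih, _root_.map_mul, map_pow, hxv, hxw, mul_assoc, ← pow_succ']
    have h1 := hit (orderOf x)
    rw [pow_orderOf_eq_one, MulAut.one_apply, sq_pow_odd hq.exp hxo] at h1
    rw [MulAut.one_apply, hxw, ← h1]
  have hN : IsPGroup 2 (normalizer ((P : Subgroup L) : Set L)) := by
    intro x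
    obtain ⟨k, r, hr, hord⟩ := Nat.exists_eq_pow_mul_and_not_dvd (orderOf_pos (x : L)).ne' 2 (by norm_num)
    refine ⟨k, Subtype.ext ?_⟩
    refine Subtype.ext (hoddone _ ((x : L) ^ 2 ^ k).2 ?_ ?_)
    · intro v hv p hp
      obtain ⟨p', hp', rfl⟩ := hp
      have hg : ((x ^ 2 ^ k : normalizer ((P : Subgroup L) : Set L)) : L)⁻¹ * p' *
          ((x ^ 2 ^ k : normalizer ((P : Subgroup L) : Set L)) : L) ∈ (P : Subgroup L) := by
        have := (mem_normalizer_iff.1 (inv_mem (x ^ 2 ^ k).2) p').1 hp'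
        rwa [inv_inv] at this
      have := hv _ ⟨_, hg, rfl⟩
      rw [map_mul, map_mul, map_inv] at this
      simp only [Subgroup.coe_subtype, SubmonoidClass.coe_pow, MulAut.mul_apply] at this ⊢
      conv_rhs => rw [← this]
      exact (MulAut.apply_inv_self V _ _).symm
    · rw [Subgroup.orderOf_coe]
      refine (Nat.not_even_iff_odd.1 fun h => hr ?_)
      rw [SubmonoidClass.coe_pow, orderOf_pow' _ (pow_ne_zero _ two_ne_zero), hord, Nat.gcd_eq_right (Dvd.intro _ rfl),
        Nat.mul_div_cancel_left _ (by positivity)] at h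
      exact even_iff_two_dvd.1 h
  have hNP : normalizer ((P : Subgroup L) : Set L) = (P : Subgroup L) := P.3 hN le_normalizer
  have hcomm : ∀ a b : L, a ∈ (P : Subgroup L) → b ∈ (P : Subgroup L) → a * b = b * a := by
    intro a b ha hb
    have h2 : ∀ c : L, c ∈ (P : Subgroup L) → c * c = 1 := fun c hc =>
      Subtype.ext (hexp _ (mem_map_of_mem L.subtype hc))
    have := h2 (a * b) (mul_mem ha hb)
    calc a * b = (a * a) * (a * b) * (b * b) := by rw [h2 a ha, h2 b hb, one_mul, mul_one]
      _ = a * (a * a) * (b * b) * b := by group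
      _ = a * b := by rw [h2 a ha, h2 b hb]; group
      _ = (a * b) * (a * b) * (b⁻¹ * a⁻¹) := by group
      _ = b * a := by
        rw [this, one_mul, inv_eq_of_mul_eq_one_right (h2 a ha), inv_eq_of_mul_eq_one_right (h2 b hb)]
  have hle : normalizer ((P : Subgroup L) : Set L) ≤ centralizer ((P : Subgroup L) : Set L) := by
    rw [hNP]
    exact fun a ha => mem_centralizer_iff.2 fun b hb => hcomm b a hb ha
  haveI : Group.IsSolvable (MonoidHom.transferSylow P hle).ker :=
    hFT _ (Nat.not_even_iff_odd.1 fun h =>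
      MonoidHom.not_dvd_card_ker_transferSylow P hle (even_iff_two_dvd.1 h))
  haveI : Group.IsSolvable (P : Subgroup L) :=
    Group.isSolvable_of_comm fun a b => Subtype.ext (hcomm a b a.2 b.2)
  exact Group.isSolvable_of_ker_le_range (MonoidHom.transferSylow P hle).ker.subtype
    (MonoidHom.transferSylow P hle) (by rw [Subgroup.range_subtype])

end CfsgLib.OutSylowC
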