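import Cfsg.Agent.OutSylowC.Transitive
import Mathlib.LinearAlgebra.Matrix.GeneralLinearGroup.Card
import Mathlib.LinearAlgebra.FiniteDimensional.Basic
import Mathlib.GroupTheory.SpecificGroups.Cyclic

/-!
Transitive groups of automorphisms of the elementary group of order sixty-four: the normaliser is
soluble modulo the group.
-/

set_option autoImplicit false
set_option linter.unusedSectionVars false
set_option linter.style.haveILetI false

universe u

namespace CfsgLib.OutSylowC

open Subgroup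
open scoped commutatorElement

variable {W : Type u} [CommGroup W] [Finite W]

theorem card_mulAut_dvd_six (h2 : ∀ v : W, v * v = 1) (hn : Nat.card W = 2 ^ 6) :
    Nat.card (MulAut W) ∣ 20158709760 := by
  classical
  haveI : Fact (Nat.Prime 2) := ⟨Nat.prime_two⟩
  haveI : Module (ZMod 2) (Additive W) := AddCommGroup.zmodModule fun v => by
    apply Additive.toMul.injective
    rw [toMul_nsmul, toMul_zero, pow_two]
    exact h2 v.toMul
  haveI : Fintype W := Fintype.ofFinite W
  have hdim : Module.finrank (ZMod 2) (Additive W) = 6 := by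
    have h := Module.card_eq_pow_finrank (K := ZMod 2) (V := Additive W)
    rw [ZMod.card, show Fintype.card (Additive W) = 2 ^ 6 by
      rw [← Nat.card_eq_fintype_card, ← hn]; exact Nat.card_congr Additive.toMul] at h
    exact Nat.pow_right_injective le_rfl (show 2 ^ _ = 2 ^ 6 by rw [← h])
  let b := Module.finBasisOfFinrankEq (ZMod 2) (Additive W) hdim
  let j : MulAut W →* (Additive W →ₗ[ZMod 2] Additive W) :=
    { toFun := fun φ => (MonoidHom.toAdditive φ.toMonoidHom).toZModLinearMap 2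
      map_one' := LinearMap.ext fun v => rfl
      map_mul' := fun φ ψ => LinearMap.ext fun v => rfl }
  have hj : Function.Injective j.toHomUnits := fun φ ψ h => MulEquiv.ext fun x => by
    have h1 := congrArg (fun u : (Additive W →ₗ[ZMod 2] Additive W)ˣ =>
      (u : Additive W →ₗ[ZMod 2] Additive W) (Additive.ofMul x)) h
    exact congrArg Additive.toMul h1
  have hd := Subgroup.card_dvd_of_injective _ hj
  rwa [Nat.card_congr (Units.mapEquiv (LinearMap.toMatrixAlgEquiv b).toMulEquiv).toEquiv,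
    show Nat.card (Matrix (Fin 6) (Fin 6) (ZMod 2))ˣ = 20158709760 from by
      rw [show (Matrix (Fin 6) (Fin 6) (ZMod 2))ˣ = GL (Fin 6) (ZMod 2) from rfl, Matrix.card_GL_field]
      simp [Fin.prod_univ_six, ZMod.card]] at hd

/-- A nontrivial seven-element fixes at most eight vectors. -/
theorem card_fix_seven (h2 : ∀ v : W, v * v = 1) (hn : Nat.card W = 2 ^ 6) {p : MulAut W}
    (hp : IsPGroup 7 (zpowers p)) (hp1 : p ≠ 1) : Nat.card (fix1 p) = 1 ∨ Nat.card (fix1 p) = 8 := by
  haveI : Fact (Nat.Prime 7) := ⟨by norm_num⟩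
  have h := card_modEq_fix hp ⊤ fun _ _ x _ => mem_top _
  rw [top_inf_eq, fixOf_zpowers, Subgroup.card_top, hn] at h
  obtain ⟨j, hj, hcard⟩ := mem_of_two_pow h2 hn (fix1 p)
  rw [hcard] at h ⊢
  have hne : j ≠ 6 := fun h6 => fix1_ne_top hp1 (Subgroup.eq_top_of_card_eq _ (by rw [hcard, h6, hn]))
  unfold Nat.ModEq at h
  interval_cases j <;> simp_all

theorem seven_dvd (j : ℕ) (hj : j ≤ 3) (h : 7 ∣ 2 ^ j - 1) : j = 0 ∨ j = 3 := by
  interval_cases j <;> simp_all

/-- A seven-element fixing a point of an invariant subgroup of order eight fixes all of it. -/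
theorem fix_eight (h2 : ∀ v : W, v * v = 1) (hn : Nat.card W = 2 ^ 6) {p : MulAut W}
    (hp : IsPGroup 7 (zpowers p)) {S : Subgroup W} (hS8 : Nat.card S = 8) (hS : ∀ x ∈ S, p x ∈ S)
    {x : W} (hx : x ∈ S) (hx1 : x ≠ 1) (hpx : p x = x) : S ≤ fix1 p := by
  haveI : Fact (Nat.Prime 7) := ⟨by norm_num⟩
  have h := card_modEq_fix hp S fun q hq y hy => by
    obtain ⟨n, rfl⟩ := (isOfFinOrder_of_finite p).mem_powers_iff_mem_zpowers.2 hq
    clear hq
    show (p ^ n) y ∈ S
    induction n with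
    | zero => exact hy
    | succ n ih => rw [pow_succ', MulAut.mul_apply]; exact hS _ ih
  rw [fixOf_zpowers, hS8] at h
  obtain ⟨j, hj, hcard⟩ := mem_of_two_pow h2 hn (S ⊓ fix1 p)
  have hle : Nat.card (S ⊓ fix1 p : Subgroup W) ≤ 8 := hS8 ▸ Subgroup.card_le_of_le inf_le_left
  have hgt : 1 < Nat.card (S ⊓ fix1 p : Subgroup W) := by
    haveI : Nontrivial (S ⊓ fix1 p : Subgroup W) :=
      ⟨⟨x, hx, mem_fix1.2 hpx⟩, 1, fun h => hx1 (congrArg Subtype.val h)⟩
    exact Finite.one_lt_card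
  have h8 : Nat.card (S ⊓ fix1 p : Subgroup W) = 8 := by
    rw [hcard] at h hle hgt ⊢
    unfold Nat.ModEq at h
    have : j ≤ 3 := (Nat.pow_le_pow_iff_right (by norm_num : 1 < 2)).1 (hle.trans (by norm_num))
    interval_cases j <;> simp_all
  exact fun y hy => ((eq_of_le_of_card_ge (inf_le_left : S ⊓ fix1 p ≤ S) (by rw [h8, hS8])).ge hy).2

/-- The case of a Sylow three-subgroup of order nine. -/
theorem isSolvable_normQuot_nine (h2 : ∀ v : W, v * v = 1) (hn : Nat.card W = 2 ^ 6)
    (X : Subgroup (MulAut W)) (htr : ∀ v w : W, v ≠ 1 → w ≠ 1 → ∃ x ∈ X, x v = w)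
    (h27 : ¬ 27 ∣ Nat.card X) : Group.IsSolvable (normQuot X) := by
  classical
  haveI : Fact (Nat.Prime 3) := ⟨Nat.prime_three⟩
  haveI : Nontrivial W := Finite.one_lt_card_iff_nontrivial.1 (hn ▸ by norm_num)
  have h9 : 9 ∣ Nat.card X := dvd_card_of_transitive X htr (by rw [hn]; norm_num) (hn ▸ by norm_num)
  let P : Sylow 3 X := default
  set R := (P : Subgroup X).map X.subtype with hR
  have hRp : IsPGroup 3 R := P.isPGroup'.map _
  have hR9 : Nat.card R = 9 := by
    rw [hR, Subgroup.card_map_of_injective X.subtype_injective]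
    obtain ⟨k, hk⟩ := IsPGroup.iff_card.1 P.isPGroup'
    have h1 : 3 ^ 2 ∣ Nat.card (P : Subgroup X) := P.pow_dvd_card_of_pow_dvd_card (by simpa using h9)
    have h3 : Nat.card (P : Subgroup X) ∣ Nat.card X := Subgroup.card_subgroup_dvd_card _
    rw [hk] at h1 h3 ⊢
    have h4 : 2 ≤ k := (Nat.pow_dvd_pow_iff_le_right (by norm_num)).1 h1
    have h5 : k < 3 := by
      by_contra hge
      exact h27 ((pow_dvd_pow 3 (not_lt.1 hge)).trans h3)
    rw [show k = 2 by omega]
    norm_num
  have hfree : ∀ p ∈ R, p ≠ 1 → fix1 p = ⊥ := by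
    intro p hp hp1
    refine (eq_bot_iff_forall _).2 fun w hw => ?_
    by_contra hw1
    obtain ⟨Xw, hXw, hc⟩ := exists_stab X htr hw1
    have hpm : p ∈ Xw := (hXw p).2 ⟨map_subtype_le _ hp, mem_fix1.1 hw⟩
    obtain ⟨k, hk⟩ := IsPGroup.iff_orderOf.1 hRp ⟨p, hp⟩
    rw [Subgroup.orderOf_mk] at hk
    rcases k with _ | k
    · exact hp1 (orderOf_eq_one_iff.1 (by simpa using hk))
    have h3 : 3 ∣ Nat.card Xw := by
      refine dvd_trans ?_ (orderOf_dvd_natCard (⟨p, hpm⟩ : Xw))
      rw [Subgroup.orderOf_mk, hk]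
      exact dvd_pow_self 3 k.succ_ne_zero
    apply h27
    rw [hc, hn]
    obtain ⟨t, ht⟩ := h3
    exact ⟨7 * t, by rw [ht]; ring⟩
  haveI : Nontrivial R := Finite.one_lt_card_iff_nontrivial.1 (hR9 ▸ by norm_num)
  obtain ⟨c, hc, hco⟩ : ∃ c ∈ R, orderOf c = 9 := by
    by_contra hcon
    push Not at hcon
    have hexp : ∀ p ∈ R, p ^ 3 = 1 := by
      intro p hp
      obtain ⟨k, hk⟩ := IsPGroup.iff_orderOf.1 hRp ⟨p, hp⟩
      rw [Subgroup.orderOf_mk] at hk
      have hdvd : orderOf p ∣ 9 := by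
        rw [← hR9, ← Subgroup.orderOf_mk p hp]; exact orderOf_dvd_natCard _
      rw [hk] at hdvd
      have hk2 : k ≤ 2 := (Nat.pow_dvd_pow_iff_le_right (by norm_num)).1 (show 3 ^ k ∣ 3 ^ 2 from hdvd)
      refine orderOf_dvd_iff_pow_eq_one.1 ?_
      rw [hk]
      rcases (show k = 0 ∨ k = 1 ∨ k = 2 by omega) with rfl | rfl | rfl
      · norm_num
      · norm_num
      · exact absurd (by rw [hk]; norm_num) (hcon p hp)
    obtain ⟨⟨z, hz⟩, hz1⟩ := exists_ne (1 : R)
    have hz1' : z ≠ 1 := fun h => hz1 (Subtype.ext h)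
    obtain ⟨h, hh, hhz⟩ : ∃ h ∈ R, h ∉ zpowers z := by
      by_contra hall
      push Not at hall
      have := Subgroup.card_le_of_le (H := R) (K := zpowers z) hall
      rw [hR9, Nat.card_zpowers, orderOf_eq_prime (hexp z hz) hz1'] at this
      omega
    have hcomm : Commute h z := by
      haveI : Fact (Nat.Prime 3) := ⟨Nat.prime_three⟩
      exact congrArg Subtype.val (IsPGroup.commutative_of_card_eq_prime_sq (p := 3)
        (by simpa using hR9) (⟨h, hh⟩ : R) ⟨z, hz⟩)
    obtain ⟨i, hi⟩ := exists_fix_ne_bot h2 (r := 3) (by decide) hcomm (hexp z hz) (hexp h hh)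
      (hfree z hz hz1')
    have h1 : h * z ^ i = 1 := by
      by_contra hne
      exact hi (hfree _ (mul_mem hh (pow_mem hz i)) hne)
    exact hhz (eq_inv_of_mul_eq_one_left h1 ▸ inv_mem (pow_mem (mem_zpowers z) i))
  have hgen : zpowers c = R := eq_of_le_of_card_ge (zpowers_le.2 hc) (by rw [hR9, Nat.card_zpowers, hco])
  have hc1 : c ≠ 1 := fun h => by rw [h, orderOf_one] at hco; omega
  refine isSolvable_normQuot_of_normalizer X P (isSolvable_normalizer_of_cyclic h2 hn hc1 ?_ ?_ _ ?_)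
  · exact fun p hp hp1 => hfree p (hgen ▸ hp) hp1
  · intro j hj hd
    rw [Nat.card_zpowers, hco] at hd
    interval_cases j <;> simp_all
  · intro x hx
    rw [hgen]
    exact (mem_normalizer_iff.1 hx c).1 hc

/-- The `h`-norm as a homomorphism. -/
def normHom (h : MulAut W) (r : ℕ) : W →* W where
  toFun v := norm h r v
  map_one' := by simp [norm]
  map_mul' a b := by simp [norm, Finset.prod_mul_distrib]

set_option maxHeartbeats 1600000 in
/-- The case of a Sylow seven-subgroup of order forty-nine. -/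
theorem isSolvable_normQuot_fortyNine (h2 : ∀ v : W, v * v = 1) (hn : Nat.card W = 2 ^ 6)
    (X : Subgroup (MulAut W)) (h49 : 49 ∣ Nat.card X) : Group.IsSolvable (normQuot X) := by
  classical
  haveI : Fact (Nat.Prime 7) := ⟨by norm_num⟩
  let P : Sylow 7 X := default
  set R := (P : Subgroup X).map X.subtype with hR
  have hRp : IsPGroup 7 R := P.isPGroup'.map _
  have hR49 : Nat.card R = 49 := by
    obtain ⟨k, hk⟩ := IsPGroup.iff_card.1 hRp
    have h1 : 7 ^ 2 ∣ Nat.card R := by
      rw [hR, Subgroup.card_map_of_injective X.subtype_injective]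
      exact P.pow_dvd_card_of_pow_dvd_card (by simpa using h49)
    have h3 : Nat.card R ∣ 20158709760 :=
      (Subgroup.card_subgroup_dvd_card R).trans (card_mulAut_dvd_six h2 hn)
    rw [hk] at h1 h3 ⊢
    have h4 : 2 ≤ k := (Nat.pow_dvd_pow_iff_le_right (by norm_num)).1 h1
    have h5 : k < 3 := by
      by_contra hge
      exact absurd ((pow_dvd_pow 7 (not_lt.1 hge)).trans h3) (by norm_num)
    rw [show k = 2 by omega]
    norm_num
  have hab : ∀ a ∈ R, ∀ b ∈ R, Commute a b := fun a ha b hb => congrArg Subtype.val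
    (IsPGroup.commutative_of_card_eq_prime_sq (p := 7) (by simpa using hR49) (⟨a, ha⟩ : R) ⟨b, hb⟩)
  have h7 : ∀ p ∈ R, IsPGroup 7 (zpowers p) := fun p hp => hRp.to_le (zpowers_le.2 hp)
  have hfix := fun p hp (hp1 : p ≠ 1) => card_fix_seven h2 hn (h7 p hp) hp1
  -- the kernel of `R` on an invariant subgroup of order eight
  have hkey : ∀ S : Subgroup W, Nat.card S = 8 → ∀ hS : ∀ p ∈ R, ∀ x ∈ S, p x ∈ S,
      Nat.card (restrHom S R hS).range ∣ 7 ∧ ∃ p ∈ R, p ≠ 1 ∧ fix1 p = S := by
    intro S hS8 hS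
    have hfree : ∀ p ∈ R, ∀ x ∈ S, x ≠ 1 → p x = x → ∀ y ∈ S, p y = y := by
      intro p hp x hx hx1 hpx y hy
      exact mem_fix1.1 (fix_eight h2 hn (h7 p hp) hS8 (hS p hp) hx hx1 hpx hy)
    have hd : Nat.card (restrHom S R hS).range ∣ 7 := by
      have := card_dvd_of_semiregular (P := (restrHom S R hS).range) ⊤ (fun _ _ _ _ => mem_top _) ?_
      · rwa [Subgroup.card_top, hS8] at this
      rintro _ ⟨p, rfl⟩ hp1 x _ hx
      by_contra hx1
      refine hp1 (MulEquiv.ext fun y => Subtype.ext ?_)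
      exact hfree p p.2 x x.2 (fun h => hx1 (Subtype.ext h)) (congrArg Subtype.val hx) y y.2
    refine ⟨hd, ?_⟩
    obtain ⟨p, hp, hp1⟩ := (bot_or_exists_ne_one (restrHom S R hS).ker).resolve_left fun hb => by
      have h := Nat.le_of_dvd (by norm_num) hd
      rw [← index_ker, hb, index_bot, hR49] at h
      omega
    refine ⟨p, p.2, fun h => hp1 (Subtype.ext h), ?_⟩
    have hle : S ≤ fix1 (p : MulAut W) := fun y hy => mem_fix1.2
      (congrArg Subtype.val (DFunLike.congr_fun (MonoidHom.mem_ker.1 hp) (⟨y, hy⟩ : S)))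
    refine (eq_of_le_of_card_ge hle ?_).symm
    rw [hS8]
    rcases hfix p p.2 (fun h => hp1 (Subtype.ext h)) with h | h <;> omega
  obtain ⟨h, hh, hh1, hh7, hhU⟩ : ∃ h ∈ R, h ≠ 1 ∧ h ^ 7 = 1 ∧ Nat.card (fix1 h) = 8 := by
    by_contra hcon
    push Not at hcon
    have hd := card_dvd_of_semiregular (P := R) ⊤ (fun _ _ _ _ => mem_top _) ?_
    · rw [Subgroup.card_top, hn, hR49] at hd
      norm_num at hd
    intro p hp hp1 x _ hx
    by_contra hx1
    obtain ⟨k, hk⟩ := IsPGroup.iff_orderOf.1 hRp ⟨p, hp⟩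
    rw [Subgroup.orderOf_mk] at hk
    rcases k with _ | k
    · exact hp1 (orderOf_eq_one_iff.1 (by simpa using hk))
    have hq1 : p ^ 7 ^ k ≠ 1 := pow_ne_one_of_lt_orderOf (by positivity)
      (hk ▸ Nat.pow_lt_pow_right (by norm_num) (Nat.lt_succ_self k))
    have hq7 : (p ^ 7 ^ k) ^ 7 = 1 := by rw [← pow_mul, ← pow_succ, ← hk, pow_orderOf_eq_one]
    rcases hfix _ (pow_mem hp _) hq1 with h | h
    · exact hx1 (mem_bot.1 (Subgroup.eq_bot_of_card_eq _ h ▸ mem_fix1.2 (pow_mem_fix hx _)))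
    · exact hcon _ (pow_mem hp _) hq1 hq7 h
  set U := fix1 h with hU
  set U' := (normHom h 7).ker with hU'
  have hUinv : ∀ p ∈ R, ∀ x ∈ U, p x ∈ U := fun p hp x hx =>
    map_mem_fixOf (fun a ha => by rw [Set.mem_singleton_iff.1 ha]; exact hab h hh p hp) hx
  have hU'inv : ∀ p ∈ R, ∀ x ∈ U', p x ∈ U' := by
    intro p hp x hx
    show norm h 7 (p x) = 1
    have hx' : norm h 7 x = 1 := hx
    rw [norm, Finset.prod_congr rfl (fun i _ => show (h ^ i) (p x) = p ((h ^ i) x) by
      rw [← MulAut.mul_apply, ← MulAut.mul_apply, ((hab h hh p hp).pow_left i).eq]), ← map_prod]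
    rw [norm] at hx'
    rw [hx', map_one]
  have hNU : ∀ x ∈ U, norm h 7 x = x := fun x hx => by
    rw [norm, Finset.prod_congr rfl (fun i _ => pow_mem_fix (mem_fix1.1 hx) i), Finset.prod_const,
      Finset.card_range, sq_pow_odd h2 (by decide)]
  have hdec : ∀ v, ∃ a ∈ U, ∃ b ∈ U', v = a * b := by
    intro v
    have hNv : norm h 7 v ∈ U := mem_fix1.2 (map_norm hh7 v)
    refine ⟨norm h 7 v, hNv, norm h 7 v * v, ?_, by rw [← mul_assoc, h2, one_mul]⟩
    show normHom h 7 (norm h 7 v * v) = 1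
    rw [map_mul]
    show norm h 7 (norm h 7 v) * norm h 7 v = 1
    rw [hNU _ hNv, h2]
  have hU'8 : Nat.card U' = 8 := by
    have hrange : (normHom h 7).range = U := le_antisymm
      (by rintro _ ⟨v, rfl⟩; exact mem_fix1.2 (map_norm hh7 v)) (fun x hx => ⟨x, hNU x hx⟩)
    have := card_mul_index (normHom h 7).ker
    rw [index_ker, hrange, hhU, hn] at this
    have h8 : Nat.card U' * 8 = 8 * 8 := by rw [this]; norm_num
    omega
  obtain ⟨hdU, -⟩ := hkey U hhU hUinv
  obtain ⟨hdU', h', hh', hh'1, hh'U⟩ := hkey U' hU'8 hU'inv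
  -- only two fixed subgroups
  have hT : ∀ p ∈ R, p ≠ 1 → Nat.card (fix1 p) = 8 → fix1 p = U ∨ fix1 p = U' := by
    intro p hp hp1 h8
    have hinv : ∀ q ∈ R, ∀ x ∈ fix1 p, q x ∈ fix1 p := fun q hq x hx =>
      map_mem_fixOf (fun a ha => by rw [Set.mem_singleton_iff.1 ha]; exact hab p hp q hq) hx
    by_cases hb : ∀ x ∈ fix1 p, x ∈ U → x = 1
    · right
      refine eq_of_le_of_card_ge (fun x hx => ?_) (by rw [h8, hU'8])
      refine MonoidHom.mem_ker.2 (hb _ ?_ (mem_fix1.2 (map_norm hh7 x)))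
      show norm h 7 x ∈ fix1 p
      exact prod_mem fun i _ => hinv _ (pow_mem hh i) x hx
    · left
      push Not at hb
      obtain ⟨x, hx, hxU, hx1⟩ := hb
      refine (eq_of_le_of_card_ge ?_ (by rw [h8, hhU])).symm
      exact fix_eight h2 hn (h7 p hp) hhU (hUinv p hp) hxU hx1 (mem_fix1.1 hx)
  refine isSolvable_normQuot_of_normalizer X P ?_
  set M := normalizer (R : Set (MulAut W)) with hM
  have hconj : ∀ x ∈ M, ∀ p : MulAut W, (fix1 p).map (x : W →* W) = fix1 (x * p * x⁻¹) := by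
    intro x _ p
    ext v
    constructor
    · rintro ⟨w, hw, rfl⟩
      refine mem_fix1.2 ?_
      show x (p (x⁻¹ (x w))) = x w
      rw [MulAut.inv_apply_self, mem_fix1.1 hw]
    · intro hv
      refine ⟨x⁻¹ v, mem_fix1.2 ?_, MulAut.apply_inv_self W x v⟩
      have := congrArg (fun t => x⁻¹ t) (mem_fix1.1 hv)
      simpa [MulAut.mul_apply] using this
  let T := {S : Subgroup W // S = U ∨ S = U'}
  have hsmul : ∀ x ∈ M, ∀ S : T, S.1.map ((x : MulAut W) : W →* W) = U ∨
      S.1.map ((x : MulAut W) : W →* W) = U' := by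
    intro x hx S
    obtain ⟨p, hp, hp1, hpS, hp8⟩ : ∃ p ∈ R, p ≠ 1 ∧ fix1 p = S.1 ∧ Nat.card S.1 = 8 := by
      rcases S.2 with e | e
      · exact ⟨h, hh, hh1, e.symm, (congrArg (fun t : Subgroup W => Nat.card t) e).trans hhU⟩
      · exact ⟨h', hh', hh'1, hh'U.trans e.symm, (congrArg (fun t : Subgroup W => Nat.card t) e).trans hU'8⟩
    rw [← hpS, hconj x hx]
    refine hT _ ((mem_normalizer_iff.1 hx p).1 hp) (fun h => hp1 (by simpa using h)) ?_
    rw [← hconj x hx, Subgroup.card_map_of_injective x.injective, hpS, hp8]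
  letI : MulAction M T :=
    { smul := fun x S => ⟨S.1.map ((x : MulAut W) : W →* W), hsmul x x.2 S⟩
      one_smul := fun S => Subtype.ext (by
        show S.1.map ((1 : MulAut W) : W →* W) = S.1
        exact Subgroup.map_id _)
      mul_smul := fun x y S => Subtype.ext (by
        show S.1.map (((x * y : M) : MulAut W) : W →* W) = (S.1.map ((y : MulAut W) : W →* W)).map _
        rw [Subgroup.map_map]
        rfl) }
  haveI : Finite T := Subtype.finite
  refine isSolvable_of_small_orbit (⟨U, Or.inl rfl⟩ : T) ?_ ?_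
  · refine le_trans (Finite.card_subtype_le _) ?_
    refine le_of_eq_of_le (Nat.card_congr (Equiv.subtypeEquivRight fun S => ?_)) (?_ : Nat.card ({U, U'} : Set (Subgroup W)) ≤ 4)
    · exact Iff.rfl
    show Nat.card ({U, U'} : Set (Subgroup W)) ≤ 4
    rw [Nat.card_coe_set_eq]
    exact (Set.ncard_insert_le _ _).trans (by rw [Set.ncard_singleton]; norm_num)
  set St := MulAction.stabilizer M (⟨U, Or.inl rfl⟩ : T)
  let Kg : Subgroup (MulAut W) := St.map M.subtype
  have hKU : ∀ x ∈ Kg, ∀ v ∈ U, x v ∈ U := by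
    rintro _ ⟨x, hx, rfl⟩ v hv
    have e : U.map ((x : MulAut W) : W →* W) = U := congrArg Subtype.val hx
    exact e.le ⟨v, hv, rfl⟩
  have hKU' : ∀ x ∈ Kg, ∀ v ∈ U', x v ∈ U' := by
    rintro _ ⟨x, hx, rfl⟩ v hv
    have e : U.map ((x : MulAut W) : W →* W) = U := congrArg Subtype.val hx
    rcases hsmul x x.2 ⟨U', Or.inr rfl⟩ with e' | e'
    · have hUU : U' = U := Subgroup.map_injective (x : MulAut W).injective (e'.trans e.symm)
      exact hUU.symm ▸ e'.le ⟨v, hv, rfl⟩
    · exact e'.le ⟨v, hv, rfl⟩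
  have hsol : ∀ (S : Subgroup W) (hS8 : Nat.card S = 8) (hS : ∀ p ∈ R, ∀ x ∈ S, p x ∈ S)
      (hK : ∀ p ∈ Kg, ∀ x ∈ S, p x ∈ S), (restrHom S R hS).range ≠ ⊥ →
      Group.IsSolvable (restrHom S Kg hK).range := by
    intro S hS8 hS hK hne
    obtain ⟨z, hz, hz1⟩ := (bot_or_exists_ne_one _).resolve_left hne
    have hd := (hkey S hS8 hS).1
    have hr7 : Nat.card (restrHom S R hS).range = 7 := ((Nat.dvd_prime (by norm_num)).1 hd).resolve_left
      fun h1 => hne (Subgroup.eq_bot_of_card_eq _ h1)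
    have hgen : zpowers z = (restrHom S R hS).range := by
      haveI : IsCyclic (restrHom S R hS).range := isCyclic_of_prime_card hr7
      refine eq_of_le_of_card_ge (zpowers_le.2 hz) ?_
      rw [hr7, Nat.card_zpowers]
      have := orderOf_dvd_natCard (⟨z, hz⟩ : (restrHom S R hS).range)
      rw [Subgroup.orderOf_mk, hr7] at this
      rcases (Nat.dvd_prime (by norm_num)).1 this with h | h
      · exact absurd (orderOf_eq_one_iff.1 h) hz1
      · omega
    refine isSolvable_normalizer_of_cyclic (W := S) (fun v => Subtype.ext (h2 v)) (n := 3)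
      (by simpa using hS8) hz1 ?_ ?_ _ ?_
    · intro p hp hp1
      obtain ⟨⟨q, hq⟩, rfl⟩ := hgen.le hp
      refine (eq_bot_iff_forall _).2 fun x hx => ?_
      by_contra hx1
      apply hp1
      refine MulEquiv.ext fun y => Subtype.ext ?_
      exact mem_fix1.1 (fix_eight h2 hn (h7 q hq) hS8 (hS q hq) x.2 (fun h => hx1 (Subtype.ext h))
        (congrArg Subtype.val (mem_fix1.1 hx)) y.2)
    · intro j hj hd'
      rw [hgen, hr7] at hd'
      exact seven_dvd j hj hd'
    · rintro _ ⟨⟨x, hx⟩, rfl⟩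
      obtain ⟨⟨q, hq⟩, rfl⟩ := hz
      rw [hgen]
      obtain ⟨⟨x', hx'⟩, -, rfl⟩ := hx
      refine ⟨⟨x' * q * x'⁻¹, (mem_normalizer_iff.1 hx' q).1 hq⟩, MulEquiv.ext fun y => Subtype.ext ?_⟩
      rfl
  have hneU : (restrHom U R hUinv).range ≠ ⊥ := fun hb => by
    have hle : U' ⊔ U ≤ ⊤ := le_top
    have hinj : Function.Injective (restrHom U' R hU'inv) := by
      refine (injective_iff_map_eq_one _).2 fun p hp => ?_
      refine Subtype.ext (MulEquiv.ext fun v => ?_)
      obtain ⟨a, ha, b, hb', rfl⟩ := hdec v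
      rw [map_mul]
      have e1 : (p : MulAut W) a = a := by
        have : restrHom U R hUinv p = 1 := mem_bot.1 (hb ▸ ⟨p, rfl⟩)
        exact congrArg Subtype.val (DFunLike.congr_fun this ⟨a, ha⟩)
      have e2 : (p : MulAut W) b = b := congrArg Subtype.val (DFunLike.congr_fun hp (⟨b, hb'⟩ : U'))
      rw [e1, e2]
      rfl
    have := Nat.card_congr (MonoidHom.ofInjective hinj).toEquiv
    rw [hR49] at this
    rw [← this] at hdU'
    norm_num at hdU'
  have hneU' : (restrHom U' R hU'inv).range ≠ ⊥ := fun hb => by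
    have hinj : Function.Injective (restrHom U R hUinv) := by
      refine (injective_iff_map_eq_one _).2 fun p hp => ?_
      refine Subtype.ext (MulEquiv.ext fun v => ?_)
      obtain ⟨a, ha, b, hb', rfl⟩ := hdec v
      rw [map_mul]
      have e1 : (p : MulAut W) b = b := by
        have : restrHom U' R hU'inv p = 1 := mem_bot.1 (hb ▸ ⟨p, rfl⟩)
        exact congrArg Subtype.val (DFunLike.congr_fun this ⟨b, hb'⟩)
      have e2 : (p : MulAut W) a = a := congrArg Subtype.val (DFunLike.congr_fun hp (⟨a, ha⟩ : U))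
      rw [e1, e2]
      rfl
    have := Nat.card_congr (MonoidHom.ofInjective hinj).toEquiv
    rw [hR49] at this
    rw [← this] at hdU
    norm_num at hdU
  haveI := hsol U hhU hUinv hKU hneU
  haveI := hsol U' hU'8 hU'inv hKU' hneU'
  haveI : Group.IsSolvable Kg := by
    refine Group.isSolvable_of_isSolvable_injective
      (f := ((restrHom U Kg hKU).rangeRestrict).prod (restrHom U' Kg hKU').rangeRestrict) ?_
    refine (injective_iff_map_eq_one _).2 fun p hp => Subtype.ext (MulEquiv.ext fun v => ?_)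
    obtain ⟨a, ha, b, hb, rfl⟩ := hdec v
    have e1 := congrArg (fun t => ((t : (restrHom U Kg hKU).range × (restrHom U' Kg hKU').range).1 : MulAut U)) hp
    have e2 := congrArg (fun t => ((t : (restrHom U Kg hKU).range × (restrHom U' Kg hKU').range).2 : MulAut U')) hp
    have f1 : (p : MulAut W) a = a := congrArg Subtype.val (DFunLike.congr_fun e1 (⟨a, ha⟩ : U))
    have f2 : (p : MulAut W) b = b := congrArg Subtype.val (DFunLike.congr_fun e2 (⟨b, hb⟩ : U'))
    rw [map_mul, f1, f2]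
    rfl
  exact Group.isSolvable_of_isSolvable_injective
    (f := ((M.subtype.comp St.subtype)).codRestrict Kg fun x => ⟨x.1, x.2, rfl⟩)
    (fun a b e => Subtype.ext (Subtype.ext (congrArg Subtype.val e :)))

end CfsgLib.OutSylowC
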