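import Cfsg.Agent.OutSylowC.Basic
import Cfsg.Agent.FTRows.OutSylowGen
import Cfsg.Agent.FGSA.QuadMap

/-!
Elementary facts on invariant subgroups, small orbits and stabilisers of a line.
-/

set_option autoImplicit false
set_option linter.unusedSectionVars false
set_option linter.style.haveILetI false

universe u

namespace CfsgLib.OutSylowC

open Subgroup
open scoped commutatorElement

variable {V : Type u} [CommGroup V] [Finite V]

/-- A subgroup of `V` whose automorphisms we restrict to. -/
def restrHom (U : Subgroup V) (J : Subgroup (MulAut V)) (hJ : ∀ j ∈ J, ∀ x ∈ U, j x ∈ U) :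
    J →* MulAut U where
  toFun j :=
    { toFun := fun x => ⟨(j : MulAut V) x, hJ j j.2 x x.2⟩
      invFun := fun x => ⟨(j : MulAut V)⁻¹ x, hJ _ (inv_mem j.2) x x.2⟩
      left_inv := fun x => Subtype.ext (MulAut.inv_apply_self V _ _)
      right_inv := fun x => Subtype.ext (MulAut.apply_inv_self V _ _)
      map_mul' := fun x y => Subtype.ext (map_mul (j : MulAut V) _ _) }
  map_one' := MulEquiv.ext fun _ => rfl
  map_mul' _ _ := MulEquiv.ext fun _ => rfl

theorem restrHom_apply (U : Subgroup V) (J : Subgroup (MulAut V))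
    (hJ : ∀ j ∈ J, ∀ x ∈ U, j x ∈ U) (j : J) (x : U) :
    ((restrHom U J hJ j x : U) : V) = (j : MulAut V) x := rfl

theorem card_eq_two_pow (h2 : ∀ v : V, v * v = 1) (U : Subgroup V) : ∃ j, Nat.card U = 2 ^ j :=
  CfsgLib.QuadMap.exists_card_eq (W := U) fun u => Subtype.ext (h2 u)

theorem mem_of_two_pow (h2 : ∀ v : V, v * v = 1) {n : ℕ} (hn : Nat.card V = 2 ^ n) (U : Subgroup V) :
    ∃ j ≤ n, Nat.card U = 2 ^ j := by
  obtain ⟨j, hj⟩ := card_eq_two_pow h2 U
  refine ⟨j, (Nat.pow_le_pow_iff_right (by norm_num : 1 < 2)).1 ?_, hj⟩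
  rw [← hj, ← hn]
  exact Subgroup.card_le_card_group U

/-- A small orbit with soluble stabiliser gives solubility. -/
theorem isSolvable_of_small_orbit {J : Type*} [Group J] {α : Type*} [MulAction J α] [Finite α]
    (a : α) (h : Nat.card (MulAction.orbit J a) ≤ 4)
    (hs : Group.IsSolvable (MulAction.stabilizer J a)) : Group.IsSolvable J := by
  classical
  haveI := hs
  let φ := MulAction.toPermHom J (MulAction.orbit J a)
  haveI : Group.IsSolvable (Equiv.Perm (MulAction.orbit J a)) := by
    haveI : Fintype (MulAction.orbit J a) := Fintype.ofFinite _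
    have hd : Nat.card (Equiv.Perm (MulAction.orbit J a)) ∣ 2 ^ 3 * 3 ^ 1 := by
      rw [Nat.card_perm]
      exact (Nat.factorial_dvd_factorial h).trans (dvd_of_eq (by decide))
    exact CfsgLib.RadFree.isSolvable_of_dvd_two 2 3 3 1 Nat.prime_two Nat.prime_three hd
  refine Group.isSolvable_of_ker_le_range (MulAction.stabilizer J a).subtype φ fun j hj => ?_
  rw [Subgroup.range_subtype, MulAction.mem_stabilizer_iff]
  exact congrArg Subtype.val
    (Equiv.congr_fun (MonoidHom.mem_ker.1 hj) ⟨a, MulAction.mem_orbit_self a⟩)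

/-- Centralising automorphisms preserving a line with cyclic vectors below and above: soluble. -/
theorem isSolvable_stab_line (h2 : ∀ v : V, v * v = 1) (S : Subgroup V) (g : MulAut V)
    (hgS : ∀ x ∈ S, g x ∈ S) {u v : V} (hu : orbSpan g u = S) (hv : S ⊔ orbSpan g v = ⊤)
    (J : Subgroup (MulAut V)) (hJg : ∀ j ∈ J, Commute j g) (hJS : ∀ j ∈ J, ∀ x ∈ S, j x ∈ S) :
    Group.IsSolvable J := by
  have huS : u ∈ S := hu ▸ self_mem_orbSpan g u
  -- the commutator of two elements moves every vector inside `S` and fixes `S`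
  have hS : ∀ a ∈ J, ∀ b ∈ J, ∀ x ∈ S, a (b x) = b (a x) := by
    intro a ha b hb x hx
    let gS : MulAut S := restrHom S (zpowers g) (fun j hj y hy => by
      obtain ⟨n, rfl⟩ := (isOfFinOrder_of_finite g).mem_powers_iff_mem_zpowers.2 hj
      clear hj
      show (g ^ n) y ∈ S
      induction n with
      | zero => exact hy
      | succ k ih => rw [pow_succ', MulAut.mul_apply]; exact hgS _ ih) ⟨g, mem_zpowers g⟩
    let f := restrHom S J hJS
    have hc : ∀ j : J, Commute (f j) gS := fun j => MulEquiv.ext fun y => Subtype.ext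
      (DFunLike.congr_fun (hJg j j.2).eq (y : V))
    have hcyc : orbSpan gS (⟨u, huS⟩ : S) = ⊤ := by
      refine eq_top_iff.2 fun y _ => ?_
      have hpow : ∀ i : ℕ, (((gS ^ i) ⟨u, huS⟩ : S) : V) = (g ^ i) u := by
        intro i
        induction i with
        | zero => rfl
        | succ i ih =>
          rw [pow_succ', pow_succ', MulAut.mul_apply, MulAut.mul_apply, ← ih]
          rfl
      have hmap : (orbSpan gS (⟨u, huS⟩ : S)).map S.subtype = orbSpan g u := by
        rw [orbSpan, orbSpan, MonoidHom.map_closure, ← Set.range_comp]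
        exact congrArg (fun s => Subgroup.closure (Set.range s)) (funext hpow)
      have hy : (y : V) ∈ orbSpan g u := hu.symm ▸ y.2
      rw [← hmap] at hy
      obtain ⟨y', hy', e⟩ := hy
      exact Subtype.ext e ▸ hy'
    exact congrArg Subtype.val
      (DFunLike.congr_fun (comm_of_orbSpan hcyc (hc ⟨a, ha⟩) (hc ⟨b, hb⟩)).eq (⟨x, hx⟩ : S))
  -- action on the quotient
  let T := V ⧸ S
  have hmap : ∀ j : MulAut V, (∀ x ∈ S, j x ∈ S) → S.map (j : V →* V) = S := by
    intro j hj
    refine eq_of_le_of_card_ge (map_le_iff_le_comap.2 fun x hx => hj x hx) ?_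
    exact (Subgroup.card_map_of_injective j.injective).ge
  let qj : J → MulAut T := fun j =>
    QuotientGroup.congr S S (j : MulAut V) (hmap _ (hJS j j.2))
  let f : J →* MulAut T := MonoidHom.mk' qj fun a b => MulEquiv.ext fun x => by
    obtain ⟨y, rfl⟩ := QuotientGroup.mk'_surjective S x
    rfl
  let gT : MulAut T := QuotientGroup.congr S S g (hmap g hgS)
  have hcT : ∀ j : J, Commute (f j) gT := fun j => MulEquiv.ext fun x => by
    obtain ⟨y, rfl⟩ := QuotientGroup.mk'_surjective S x
    exact congrArg (QuotientGroup.mk' S) (DFunLike.congr_fun (hJg j j.2).eq y)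
  have hcycT : orbSpan gT (QuotientGroup.mk' S v) = ⊤ := by
    have hpow : ∀ i : ℕ, (gT ^ i) (QuotientGroup.mk' S v) = QuotientGroup.mk' S ((g ^ i) v) := by
      intro i
      induction i with
      | zero => rfl
      | succ i ih => rw [pow_succ', pow_succ', MulAut.mul_apply, MulAut.mul_apply, ih]; rfl
    have h1 : orbSpan gT (QuotientGroup.mk' S v) = (orbSpan g v).map (QuotientGroup.mk' S) := by
      rw [orbSpan, orbSpan, MonoidHom.map_closure, ← Set.range_comp]
      exact congrArg (fun s => Subgroup.closure (Set.range s)) (funext hpow)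
    have h3 := congrArg (Subgroup.map (QuotientGroup.mk' S)) hv
    rw [Subgroup.map_sup, (Subgroup.map_eq_bot_iff _).2 (QuotientGroup.ker_mk' S).ge, bot_sup_eq,
      map_top_of_surjective _ (QuotientGroup.mk'_surjective S)] at h3
    rw [h1, h3]
  -- the kernel of both actions is abelian
  let K : Subgroup J :=
    { carrier := {j | (∀ x ∈ S, (j : MulAut V) x = x) ∧ ∀ x, (j : MulAut V) x * x ∈ S}
      one_mem' := ⟨fun x _ => rfl, fun x => by
        show x * x ∈ S
        rw [h2]; exact one_mem _⟩
      mul_mem' := fun {a b} ha hb => ⟨fun x hx => by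
          show (a : MulAut V) ((b : MulAut V) x) = x
          rw [hb.1 x hx, ha.1 x hx], fun x => by
          show (a : MulAut V) ((b : MulAut V) x) * x ∈ S
          have := mul_mem (ha.2 ((b : MulAut V) x)) (hb.2 x)
          rwa [mul_assoc, ← mul_assoc ((b : MulAut V) x), h2, one_mul] at this⟩
      inv_mem' := fun {a} ha => ⟨fun x hx => by
          show (a : MulAut V)⁻¹ x = x
          conv_lhs => rw [← ha.1 x hx]
          exact MulAut.inv_apply_self V _ x, fun x => by
          show (a : MulAut V)⁻¹ x * x ∈ S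
          have := ha.2 ((a : MulAut V)⁻¹ x)
          rwa [MulAut.apply_inv_self, mul_comm] at this⟩ }
  haveI : Group.IsSolvable K := Group.isSolvable_of_comm fun a b => by
    refine Subtype.ext (Subtype.ext (MulEquiv.ext fun x => ?_))
    show (a.1 : MulAut V) ((b.1 : MulAut V) x) = (b.1 : MulAut V) ((a.1 : MulAut V) x)
    have e : ∀ j : MulAut V, j x = j x * x * x := fun j => by rw [mul_assoc, h2, mul_one]
    conv_lhs => rw [e (b.1 : MulAut V), map_mul, a.2.1 _ (b.2.2 x), e (a.1 : MulAut V)]
    conv_rhs => rw [e (a.1 : MulAut V), map_mul, b.2.1 _ (a.2.2 x), e (b.1 : MulAut V)]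
    rw [mul_left_comm]
  refine Group.isSolvable_of_ker_le_range K.subtype (Abelianization.of (G := J)) ?_
  rw [Subgroup.range_subtype, Abelianization.ker_of, _root_.commutator_def]
  refine commutator_le.2 fun a _ b _ => ⟨fun x hx => ?_, fun x => ?_⟩
  · have hJinv : ∀ j : J, ((j : MulAut V))⁻¹ x ∈ S := fun j => hJS _ (inv_mem j.2) x hx
    show (a : MulAut V) ((b : MulAut V) ((a : MulAut V)⁻¹ ((b : MulAut V)⁻¹ x))) = x
    rw [hS _ a.2 _ b.2 _ (hJS _ (inv_mem a.2) _ (hJinv b)), MulAut.apply_inv_self,
      MulAut.apply_inv_self]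
  · have hfc : f ⁅a, b⁆ = 1 := by
      rw [map_commutatorElement, commutatorElement_eq_one_iff_mul_comm]
      exact (comm_of_orbSpan hcycT (hcT a) (hcT b)).eq
    have := DFunLike.congr_fun hfc (QuotientGroup.mk' S x)
    rw [MulAut.one_apply] at this
    have h3 : ((⁅a, b⁆ : J) : MulAut V) x / x ∈ S := (QuotientGroup.eq_iff_div_mem).1 this
    rwa [div_eq_mul_inv, inv_eq_of_mul_eq_one_right (h2 x)] at h3

end CfsgLib.OutSylowC
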