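import Cfsg.Agent.OutSylowC.Small
import Cfsg.Agent.KGroup.Primitive2
import Mathlib.GroupTheory.Sylow

/-!
Groups of automorphisms transitive on nontrivial vectors: Frattini arguments and primitive primes.
-/

set_option autoImplicit false
set_option linter.unusedSectionVars false
set_option linter.style.haveILetI false

universe u

namespace CfsgLib.OutSylowC

open Subgroup
open scoped commutatorElement

variable {W : Type u} [CommGroup W] [Finite W]

/-- The quotient of the normaliser of `X` by `X`. -/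
abbrev normQuot (X : Subgroup (MulAut W)) :=
  ↥(normalizer (X : Set (MulAut W))) ⧸ X.subgroupOf (normalizer (X : Set (MulAut W)))

theorem card_normalizer (X : Subgroup (MulAut W)) :
    Nat.card (normalizer (X : Set (MulAut W))) = Nat.card (normQuot X) * Nat.card X := by
  rw [Subgroup.card_eq_card_quotient_mul_card_subgroup
    (X.subgroupOf (normalizer (X : Set (MulAut W))))]
  congr 1
  exact Nat.card_congr (Subgroup.subgroupOfEquivOfLe Subgroup.le_normalizer).toEquiv

theorem exists_stab (X : Subgroup (MulAut W)) (htr : ∀ v w : W, v ≠ 1 → w ≠ 1 → ∃ x ∈ X, x v = w)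
    {w : W} (hw : w ≠ 1) :
    ∃ Xw : Subgroup (MulAut W), (∀ x, x ∈ Xw ↔ x ∈ X ∧ x w = w) ∧
      Nat.card X = (Nat.card W - 1) * Nat.card Xw := by
  classical
  refine ⟨(MulAction.stabilizer X w).map X.subtype, fun x => ⟨?_, fun h => ⟨⟨x, h.1⟩, h.2, rfl⟩⟩, ?_⟩
  · rintro ⟨y, hy, rfl⟩
    exact ⟨y.2, hy⟩
  rw [Subgroup.card_map_of_injective X.subtype_injective,
    Subgroup.card_eq_card_quotient_mul_card_subgroup (MulAction.stabilizer X w),
    ← Nat.card_congr (MulAction.orbitEquivQuotientStabilizer X w)]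
  congr 1
  have ho : MulAction.orbit X w = {v : W | v ≠ 1} := by
    ext v
    constructor
    · rintro ⟨x, rfl⟩ h
      exact hw ((x : MulAut W).injective (h.trans (map_one (x : MulAut W)).symm))
    · intro hv
      obtain ⟨x, hx, e⟩ := htr w v hw hv
      exact ⟨⟨x, hx⟩, e⟩
  rw [ho]
  have := Fintype.ofFinite W
  show Nat.card {v : W // v ≠ 1} = _
  rw [Nat.card_eq_fintype_card, Fintype.card_subtype_compl, Fintype.card_subtype_eq,
    Nat.card_eq_fintype_card]

theorem dvd_card_of_transitive (X : Subgroup (MulAut W))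
    (htr : ∀ v w : W, v ≠ 1 → w ≠ 1 → ∃ x ∈ X, x v = w) {r : ℕ} (hr : r ∣ Nat.card W - 1)
    (hW : 1 < Nat.card W) : r ∣ Nat.card X := by
  haveI := Finite.one_lt_card_iff_nontrivial.1 hW
  obtain ⟨w, hw⟩ := exists_ne (1 : W)
  obtain ⟨Xw, -, he⟩ := exists_stab X htr hw
  exact he ▸ hr.mul_right _

/-- The Frattini argument inside the normaliser. -/
theorem map_normalizer_eq_top {r : ℕ} [Fact r.Prime] (X : Subgroup (MulAut W)) (P : Sylow r X) :
    ((normalizer (((P : Subgroup X).map X.subtype : Subgroup (MulAut W)) : Set (MulAut W))).subgroupOf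
        (normalizer (X : Set (MulAut W)))).map
      (QuotientGroup.mk' (X.subgroupOf (normalizer (X : Set (MulAut W))))) = ⊤ := by
  set N := normalizer (X : Set (MulAut W))
  set X' := X.subgroupOf N
  let e : X ≃* X' := (Subgroup.subgroupOfEquivOfLe Subgroup.le_normalizer).symm
  let P' : Sylow r X' := P.mapSurjective (f := e.toMonoidHom) e.surjective
  have h := Sylow.normalizer_sup_eq_top P'
  refine eq_top_iff.2 fun y _ => ?_
  obtain ⟨g, rfl⟩ := QuotientGroup.mk'_surjective X' y
  have hg : g ∈ normalizer (((P' : Subgroup X').map X'.subtype : Subgroup N) : Set N) ⊔ X' :=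
    h ▸ mem_top g
  rw [mem_sup_of_normal_right] at hg
  obtain ⟨m, hm, x, hx, rfl⟩ := hg
  have hP : ((P' : Subgroup X').map X'.subtype).map N.subtype = (P : Subgroup X).map X.subtype := by
    show (((P : Subgroup X).map e.toMonoidHom).map X'.subtype).map N.subtype = _
    rw [map_map, map_map]
    rfl
  refine ⟨m, mem_subgroupOf.2 ?_, ?_⟩
  · rw [mem_normalizer_iff, ← hP]
    intro p
    constructor
    · rintro ⟨p', hp', rfl⟩
      exact ⟨m * p' * m⁻¹, (mem_normalizer_iff.1 hm p').1 hp', rfl⟩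
    · rintro ⟨p', hp', e'⟩
      refine ⟨m⁻¹ * p' * m, (mem_normalizer_iff.1 hm _).2 (by
        rw [show m * (m⁻¹ * p' * m) * m⁻¹ = p' by group]; exact hp'), ?_⟩
      show ((m⁻¹ * p' * m : N) : MulAut W) = p
      have e'' : (p' : MulAut W) = (m : MulAut W) * p * (m : MulAut W)⁻¹ := e'
      push_cast
      rw [e'']
      group
  · rw [map_mul, show QuotientGroup.mk' X' x = 1 from (QuotientGroup.eq_one_iff x).2 hx, mul_one]

theorem isSolvable_normQuot_of_normalizer {r : ℕ} [Fact r.Prime] (X : Subgroup (MulAut W)) (P : Sylow r X)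
    (h : Group.IsSolvable (normalizer (((P : Subgroup X).map X.subtype : Subgroup (MulAut W)) : Set (MulAut W)))) :
    Group.IsSolvable (normQuot X) := by
  set M := normalizer (((P : Subgroup X).map X.subtype : Subgroup (MulAut W)) : Set (MulAut W))
  set N := normalizer (X : Set (MulAut W))
  haveI : Group.IsSolvable M := h
  haveI : Group.IsSolvable (M.subgroupOf N) :=
    Group.isSolvable_of_isSolvable_injective
      (f := ((N.subtype.comp (M.subgroupOf N).subtype).codRestrict M fun x => x.2))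
      (fun a b e => Subtype.ext (Subtype.ext (congrArg Subtype.val e :)))
  refine Group.isSolvable_of_surjective
    (f := (QuotientGroup.mk' (X.subgroupOf N)).comp (M.subgroupOf N).subtype) ?_
  intro y
  obtain ⟨x, hx, e⟩ := (map_normalizer_eq_top X P).ge (mem_top y)
  exact ⟨⟨x, hx⟩, e⟩

/-- A cyclic subgroup all whose nontrivial elements are fixed-point free, of order primitive for
`W`: its normaliser is soluble. -/
theorem isSolvable_normalizer_of_cyclic (h2 : ∀ v : W, v * v = 1) {n : ℕ} (hn : Nat.card W = 2 ^ n)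
    {z : MulAut W} (hz : z ≠ 1) (hfree : ∀ p ∈ zpowers z, p ≠ 1 → fix1 p = ⊥)
    (hprim : ∀ j ≤ n, Nat.card (zpowers z) ∣ 2 ^ j - 1 → j = 0 ∨ j = n)
    (M : Subgroup (MulAut W)) (hM : ∀ x ∈ M, x * z * x⁻¹ ∈ zpowers z) : Group.IsSolvable M := by
  obtain ⟨u, hu⟩ : ∃ u : W, u ≠ 1 := by
    by_contra h
    push Not at h
    exact hz (MulEquiv.ext fun x => (h (z x)).trans (h x).symm)
  refine isSolvable_of_normalizes_zpowers z M hM fun a _ b _ ha hb => comm_of_orbSpan (u := u) ?_ ha hb
  have hinv : ∀ p ∈ zpowers z, ∀ x ∈ orbSpan z u, p x ∈ orbSpan z u := by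
    intro p hp x hx
    obtain ⟨k, rfl⟩ := (isOfFinOrder_of_finite z).mem_powers_iff_mem_zpowers.2 hp
    clear hp
    show (z ^ k) x ∈ _
    induction k with
    | zero => exact hx
    | succ k ih => rw [pow_succ', MulAut.mul_apply]; exact map_mem_orbSpan z u ih
  have hd := card_dvd_of_semiregular (P := zpowers z) (orbSpan z u) hinv
    fun p hp hp1 x _ hx => mem_bot.1 (hfree p hp hp1 ▸ mem_fix1.2 hx)
  obtain ⟨j, hj, hcard⟩ := mem_of_two_pow h2 hn (orbSpan z u)
  rw [hcard] at hd
  rcases hprim j hj hd with rfl | rfl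
  · exfalso
    exact hu (mem_bot.1 (Subgroup.eq_bot_of_card_eq _ (by simpa using hcard) ▸ self_mem_orbSpan z u))
  · exact Subgroup.eq_top_of_card_eq _ (hcard.trans hn.symm)

/-- In dimension other than six. -/
theorem isSolvable_normQuot_of_ne_six (h2 : ∀ v : W, v * v = 1) {n : ℕ} (hn : Nat.card W = 2 ^ n)
    (hn2 : 2 ≤ n) (h6 : n ≠ 6) (X : Subgroup (MulAut W))
    (htr : ∀ v w : W, v ≠ 1 → w ≠ 1 → ∃ x ∈ X, x v = w) : Group.IsSolvable (normQuot X) := by
  classical
  obtain ⟨r, hr, hprim⟩ := CfsgLib.Primitive2.exists_primitive hn2 h6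
  haveI := Fact.mk hr
  have hrn : r ∣ 2 ^ n - 1 := (hprim n).2 dvd_rfl
  have hr2 : r ≠ 2 := by
    rintro rfl
    have h1 : Even (2 ^ n) := Nat.even_pow.2 ⟨even_two, by omega⟩
    have h3 := Nat.one_le_two_pow (n := n)
    obtain ⟨a, ha⟩ := hrn
    obtain ⟨b, hb⟩ := h1
    omega
  have hW : 1 < Nat.card W := hn ▸ Nat.one_lt_two_pow (by omega)
  haveI : Nontrivial W := Finite.one_lt_card_iff_nontrivial.1 hW
  have hfix : ∀ p : MulAut W, p ^ r = 1 → p ≠ 1 → fix1 p = ⊥ := by
    intro p hp hp1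
    have hP : IsPGroup r (zpowers p) := IsPGroup.of_card (n := 1) (by
      rw [Nat.card_zpowers, orderOf_eq_prime hp hp1, pow_one])
    have h := card_modEq_fix hP ⊤ fun _ _ x _ => mem_top _
    rw [top_inf_eq, fixOf_zpowers, Subgroup.card_top, hn] at h
    obtain ⟨j, hj, hcard⟩ := mem_of_two_pow h2 hn (fix1 p)
    rw [hcard] at h
    have hd : r ∣ 2 ^ j - 1 := by
      have h1 : (1 : ℕ) ≡ 2 ^ n [MOD r] := (Nat.modEq_iff_dvd' Nat.one_le_two_pow).2 hrn
      exact (Nat.modEq_iff_dvd' Nat.one_le_two_pow).1 (h1.trans h)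
    rcases Nat.eq_zero_or_pos j with rfl | hj0
    · exact Subgroup.eq_bot_of_card_eq _ (by simpa using hcard)
    · have : j = n := le_antisymm hj (Nat.le_of_dvd hj0 ((hprim j).1 hd))
      exact absurd (Subgroup.eq_top_of_card_eq _ (by rw [hcard, this, hn])) (fix1_ne_top hp1)
  let P : Sylow r X := default
  have hPne : (P : Subgroup X) ≠ ⊥ :=
    P.ne_bot_of_dvd_card (dvd_card_of_transitive X htr (hn ▸ hrn) hW)
  set R := (P : Subgroup X).map X.subtype with hR
  have hRp : IsPGroup r R := P.isPGroup'.map _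
  haveI : Nontrivial R := (Subgroup.nontrivial_iff_ne_bot R).2
    (fun h => hPne ((map_eq_bot_iff_of_injective _ X.subtype_injective).1 h))
  haveI := hRp.center_nontrivial
  obtain ⟨k, hk⟩ := IsPGroup.iff_card.1 (hRp.to_subgroup (center R))
  have hk0 : k ≠ 0 := by
    rintro rfl
    exact absurd (Nat.card_eq_one_iff_unique.1 (by rw [hk, pow_zero] : Nat.card (center R) = 1)).1
      (not_subsingleton _)
  obtain ⟨⟨⟨z, hzR⟩, hzc⟩, hzo⟩ :=
    exists_prime_orderOf_dvd_card' (G := center R) r (hk ▸ dvd_pow_self r hk0)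
  rw [Subgroup.orderOf_mk, Subgroup.orderOf_mk] at hzo
  have hzr : z ^ r = 1 := hzo ▸ pow_orderOf_eq_one z
  have hz1 : z ≠ 1 := fun h => by
    rw [h, orderOf_one] at hzo
    exact hr.ne_one hzo.symm
  have hzfix := hfix z hzr hz1
  have huniq : ∀ h ∈ R, h ^ r = 1 → h ∈ zpowers z := by
    intro h hh hhr
    have hc : Commute h z := congrArg Subtype.val (Subgroup.mem_center_iff.1 hzc ⟨h, hh⟩)
    obtain ⟨i, hi⟩ := exists_fix_ne_bot h2 (hr.odd_of_ne_two hr2) hc hzr hhr hzfix
    have h1 : h * z ^ i = 1 := by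
      by_contra hne
      refine hi (hfix _ ?_ hne)
      rw [(hc.pow_right i).mul_pow, hhr, one_mul, ← pow_mul, mul_comm, pow_mul, hzr, one_pow]
    rw [eq_inv_of_mul_eq_one_left h1]
    exact inv_mem (pow_mem (mem_zpowers z) i)
  refine isSolvable_normQuot_of_normalizer X P (isSolvable_normalizer_of_cyclic h2 hn hz1 ?_ ?_ _ ?_)
  · intro p hp hp1
    obtain ⟨i, rfl⟩ := (isOfFinOrder_of_finite z).mem_powers_iff_mem_zpowers.2 hp
    exact hfix _ (by
      show (z ^ i) ^ r = 1
      rw [← pow_mul, mul_comm, pow_mul, hzr, one_pow]) hp1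
  · intro j hj hd
    rw [Nat.card_zpowers, hzo] at hd
    rcases Nat.eq_zero_or_pos j with h | hj0
    · exact Or.inl h
    · exact Or.inr (le_antisymm hj (Nat.le_of_dvd hj0 ((hprim j).1 hd)))
  · intro x hx
    exact huniq _ ((mem_normalizer_iff.1 hx z).1 hzR) (by rw [conj_pow, hzr, mul_one, mul_inv_cancel])

end CfsgLib.OutSylowC
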